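import Mathlib.GroupTheory.FreeGroup.Reduce

/-!
# Multiplying a reduced word by one letter

`letter b i` is the generator `i` (`b = true`) or its inverse (`b = false`) in `FreeGroup ι`.
Multiplying `g` on the left by a letter changes the length by `+1` or `-1`, and the length drops for
exactly one letter `i` (for given `b`).
-/

namespace Groth.Agent.An.H897.FreeWord

variable {ι : Type*}

/-- The letter `i` (if `b`) or its inverse (if `!b`). -/
def letter (b : Bool) (i : ι) : FreeGroup ι := FreeGroup.mk [(i, b)]

lemma letter_true (i : ι) : letter true i = FreeGroup.of i := rfl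

lemma letter_mul_letter_not (b : Bool) (i : ι) : letter b i * letter (!b) i = 1 := by
  unfold letter
  rw [FreeGroup.mul_mk]
  have h : FreeGroup.Red.Step ([(i, b)] ++ [(i, !b)]) [] := by
    exact (FreeGroup.Red.Step.not (L₁ := ([] : List (ι × Bool))) (L₂ := []) (x := i) (b := b))
  exact (Quot.sound h).trans rfl

lemma letter_not (b : Bool) (i : ι) : letter (!b) i = (letter b i)⁻¹ :=
  (inv_eq_of_mul_eq_one_right (letter_mul_letter_not b i)).symm

lemma letter_false (i : ι) : letter false i = (FreeGroup.of i)⁻¹ := letter_not true i

variable [DecidableEq ι]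

lemma letter_ne_one (b : Bool) (i : ι) : letter b i ≠ 1 := by
  intro h
  have := congrArg FreeGroup.toWord h
  simp [letter] at this

lemma toWord_letter_mul (b : Bool) (i : ι) (g : FreeGroup ι) :
    (letter b i * g).toWord = FreeGroup.reduce ((i, b) :: g.toWord) := by
  rw [FreeGroup.toWord_mul]
  rfl

/-- Length of a letter times a word. -/
lemma norm_letter_mul (b : Bool) (i : ι) (g : FreeGroup ι) :
    (g.toWord.head? = some (i, !b) ∧ (letter b i * g).norm + 1 = g.norm) ∨
      (g.toWord.head? ≠ some (i, !b) ∧ (letter b i * g).norm = g.norm + 1) := by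
  unfold FreeGroup.norm
  rw [toWord_letter_mul, FreeGroup.reduce.cons, FreeGroup.reduce_toWord]
  rcases hg : g.toWord with _ | ⟨⟨j, b'⟩, L⟩
  · right
    simp
  · by_cases h : i = j ∧ b = !b'
    · left
      obtain ⟨rfl, rfl⟩ := h
      simp
    · right
      refine ⟨?_, ?_⟩
      · intro h'
        simp only [List.head?_cons, Option.some.injEq, Prod.mk.injEq] at h'
        apply h
        obtain ⟨rfl, rfl⟩ := h'
        simp
      · simp only
        rw [if_neg h]
        simp

lemma head_of_norm_le {b : Bool} {i : ι} {g : FreeGroup ι} (h : (letter b i * g).norm ≤ g.norm) :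
    g.toWord.head? = some (i, !b) ∧ (letter b i * g).norm + 1 = g.norm := by
  rcases norm_letter_mul b i g with h' | h'
  · exact h'
  · omega

lemma eq_of_norm_le {b : Bool} {i j : ι} {g : FreeGroup ι} (h : (letter b i * g).norm ≤ g.norm)
    (h' : (letter b j * g).norm ≤ g.norm) : i = j := by
  have h1 := (head_of_norm_le h).1
  have h2 := (head_of_norm_le h').1
  rw [h1] at h2
  simpa using h2

end Groth.Agent.An.H897.FreeWord
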