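import Mathlib.Topology.Homotopy.Basic
import Mathlib.Topology.Compactness.Compact
import Mathlib.Topology.Separation.Hausdorff
import Mathlib.Topology.Connected.Clopen
import Mathlib.Algebra.Order.BigOperators.Group.Finset
import Groth.Agent.An.H897.FreeWord

/-!
# Lemma Q, core: pushing a map along a forest of contractible pieces

`T` is covered by `U` and `V`; `c` labels the pieces of `U ∩ V`.  A map `a : K → T`, `K` compact
Hausdorff connected, together with a trivialisation (`α`, `β`) of the pulled back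
`FreeGroup ι`-cocycle can be deformed (relative to a set `B` on which the trivialisation is
normalised) to a map into `U` or into `V`.
-/

open Set Topology
open scoped unitInterval

namespace Groth.Agent.An.H897.Core

open FreeWord

variable {T : Type*} [TopologicalSpace T] {ι : Type*}

/-- The pair `(A, E)` is compressible: maps `(K, C) → (A, E)`, `K` compact Hausdorff, can be deformed
inside `A`, relative to `C`, to maps into `E`. -/
def Compressible (A E : Set T) : Prop :=
  ∀ (K : Type) [TopologicalSpace K] [CompactSpace K] [T2Space K] (C : Set K), IsClosed C →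
    ∀ a : C(K, T), (∀ k, a k ∈ A) → (∀ k ∈ C, a k ∈ E) →
      ∃ H : C(I × K, T), (∀ k, H (0, k) = a k) ∧ (∀ t k, H (t, k) ∈ A) ∧
        (∀ t, ∀ k ∈ C, H (t, k) = a k) ∧ ∀ k, H (1, k) ∈ E

/-- One side of the cover: every piece `{x ∈ E | c x = i}` of the overlap lies in a clopen part `A`
of `U` which can be compressed into the piece. -/
def Side (U E : Set T) (c : T → ι) : Prop :=
  ∀ i, ∃ A : Set T, IsOpen A ∧ IsOpen (U \ A) ∧ A ⊆ U ∧ (∀ x ∈ E, c x = i → x ∈ A) ∧
    Compressible A {x | x ∈ E ∧ c x = i}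

/-- Glueing a homotopy defined on a closed part. -/
lemma exists_glue {K : Type*} [TopologicalSpace K] {P R : Set K} (hP : IsClosed P)
    (hR : IsClosed R) (hPR : P ∪ R = univ) (a : C(K, T)) (H : C(I × P, T))
    (h0 : ∀ k, H (0, k) = a k) (hC : ∀ t (k : P), (k : K) ∈ R → H (t, k) = a k) :
    ∃ a' : C(K, T), a.HomotopicRel a' R ∧ ∀ k : P, a' k = H (1, k) := by
  classical
  let F : I × K → T := fun z => if h : z.2 ∈ P then H (z.1, ⟨z.2, h⟩) else a z.2
  have hFP : ∀ t (k : P), F (t, k) = H (t, k) := fun t k => by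
    simp only [F]
    rw [dif_pos k.2]
  have hFR : ∀ t, ∀ k ∈ R, F (t, k) = a k := fun t k hk => by
    simp only [F]
    split_ifs with h
    · exact hC t ⟨k, h⟩ hk
    · rfl
  have hFc : Continuous F := by
    rw [← continuousOn_univ]
    have hu : (univ : Set (I × K)) = (Prod.snd ⁻¹' P) ∪ (Prod.snd ⁻¹' R) := by
      rw [← preimage_union, hPR, preimage_univ]
    rw [hu]
    refine ContinuousOn.union_of_isClosed ?_ ?_ (hP.preimage continuous_snd)
      (hR.preimage continuous_snd)
    · rw [continuousOn_iff_continuous_domRestrict]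
      have : (Set.domRestrict (Prod.snd ⁻¹' P) F) =
          fun z : ↥(Prod.snd ⁻¹' P : Set (I × K)) => H (z.1.1, ⟨z.1.2, z.2⟩) := by
        ext z
        exact hFP z.1.1 ⟨z.1.2, z.2⟩
      rw [this]
      exact H.continuous.comp (by fun_prop)
    · refine (a.continuous.comp continuous_snd).continuousOn.congr ?_
      rintro ⟨t, k⟩ hk
      exact hFR t k hk
  have hF0 : ∀ k, F (0, k) = a k := fun k => by
    rcases (hPR.symm ▸ mem_univ k : k ∈ P ∪ R) with hk | hk
    · exact (hFP 0 ⟨k, hk⟩).trans (h0 ⟨k, hk⟩)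
    · exact hFR 0 k hk
  refine ⟨⟨fun k => F (1, k), hFc.comp (by fun_prop)⟩, ⟨⟨⟨⟨F, hFc⟩, hF0, fun _ => rfl⟩, ?_⟩⟩, ?_⟩
  · intro t k hk
    exact hFR t k hk
  · intro k
    exact hFP 1 k

variable {K : Type} [TopologicalSpace K]

/-- The combinatorial data carried along: closed sets `P`, `Q` covering `K`, mapped into `U`, `V`,
and trivialisations `α`, `β` of the cocycle. -/
structure State (U V : Set T) (c : T → ι) (b : Bool) (B : Set K) (a : C(K, T)) (P Q : Set K)
    (α β : K → FreeGroup ι) (FP FQ : Finset (FreeGroup ι)) : Prop where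
  closedP : IsClosed P
  closedQ : IsClosed Q
  cover : P ∪ Q = univ
  mapsP : ∀ y ∈ P, a y ∈ U
  mapsQ : ∀ y ∈ Q, a y ∈ V
  lcP : ∀ S : Set (FreeGroup ι), IsClosed {y | y ∈ P ∧ α y ∈ S}
  lcQ : ∀ S : Set (FreeGroup ι), IsClosed {y | y ∈ Q ∧ β y ∈ S}
  rel : ∀ y ∈ P, y ∈ Q → β y = letter b (c (a y)) * α y
  bd : ∀ y ∈ B, (y ∈ P ∧ α y = 1) ∨ (y ∈ Q ∧ β y = 1)
  finP : ∀ y ∈ P, α y ∈ FP
  finQ : ∀ y ∈ Q, β y ∈ FQ

lemma State.symm {U V : Set T} {c : T → ι} {b : Bool} {B : Set K} {a : C(K, T)} {P Q : Set K}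
    {α β : K → FreeGroup ι} {FP FQ : Finset (FreeGroup ι)}
    (h : State U V c b B a P Q α β FP FQ) : State V U c (!b) B a Q P β α FQ FP where
  closedP := h.closedQ
  closedQ := h.closedP
  cover := by rw [union_comm]; exact h.cover
  mapsP := h.mapsQ
  mapsQ := h.mapsP
  lcP := h.lcQ
  lcQ := h.lcP
  rel := fun y hQ hP => by
    rw [h.rel y hP hQ, letter_not, inv_mul_cancel_left]
  bd := fun y hy => (h.bd y hy).symm
  finP := h.finQ
  finQ := h.finP

variable [DecidableEq ι]

/-- The measure of a state. -/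
def meas (FP FQ : Finset (FreeGroup ι)) : ℕ :=
  ∑ g ∈ FP, 3 ^ g.norm + ∑ g ∈ FQ, 3 ^ g.norm

lemma meas_comm (FP FQ : Finset (FreeGroup ι)) : meas FP FQ = meas FQ FP := Nat.add_comm _ _

lemma meas_erase_lt {FP FQ : Finset (FreeGroup ι)} {g : FreeGroup ι} (hg : g ∈ FP) :
    meas (FP.erase g) FQ < meas FP FQ := by
  unfold meas
  have h := Finset.add_sum_erase FP (fun g => 3 ^ g.norm) hg
  have : 0 < 3 ^ g.norm := by positivity
  omega

lemma meas_move_lt {FP FQ : Finset (FreeGroup ι)} {g g' : FreeGroup ι} (hg : g ∈ FP)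
    (h' : g'.norm + 1 = g.norm) : meas (FP.erase g) (insert g' FQ) < meas FP FQ := by
  unfold meas
  have h := Finset.add_sum_erase FP (fun g => 3 ^ g.norm) hg
  have h1 : ∑ x ∈ insert g' FQ, 3 ^ x.norm ≤ 3 ^ g'.norm + ∑ x ∈ FQ, 3 ^ x.norm := by
    by_cases hm : g' ∈ FQ
    · rw [Finset.insert_eq_of_mem hm]; exact Nat.le_add_left _ _
    · rw [Finset.sum_insert hm]
  have h2 : 3 ^ g'.norm < 3 ^ g.norm := Nat.pow_lt_pow_right (by norm_num) (by omega)
  calc ∑ x ∈ FP.erase g, 3 ^ x.norm + ∑ x ∈ insert g' FQ, 3 ^ x.norm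
      ≤ ∑ x ∈ FP.erase g, 3 ^ x.norm + (3 ^ g'.norm + ∑ x ∈ FQ, 3 ^ x.norm) :=
        Nat.add_le_add_left h1 _
    _ < ∑ x ∈ FP.erase g, 3 ^ x.norm + (3 ^ g.norm + ∑ x ∈ FQ, 3 ^ x.norm) := by
        apply Nat.add_lt_add_left
        exact Nat.add_lt_add_right h2 _
    _ = ∑ x ∈ FP, 3 ^ x.norm + ∑ x ∈ FQ, 3 ^ x.norm := by
        rw [← h]; ring

variable [CompactSpace K] [T2Space K] [PreconnectedSpace K]

/-- One step: remove the value `g` of maximal length from the `P`-side. -/
lemma step {U V E : Set T} (hE : E = U ∩ V) {c : T → ι} (hU : Side U E c) {b : Bool} {B : Set K}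
    {a : C(K, T)} {P Q : Set K} {α β : K → FreeGroup ι} {FP FQ : Finset (FreeGroup ι)}
    (h : State U V c b B a P Q α β FP FQ) {g : FreeGroup ι} (hg : g ∈ FP) (hg1 : g.norm ≠ 0)
    (hmax : ∀ g' ∈ FQ, g'.norm ≤ g.norm) :
    (∀ y, a y ∈ U) ∨ ∃ (a' : C(K, T)) (P' Q' : Set K) (α' β' : K → FreeGroup ι)
      (FP' FQ' : Finset (FreeGroup ι)), State U V c b B a' P' Q' α' β' FP' FQ' ∧
        a.HomotopicRel a' B ∧ meas FP' FQ' < meas FP FQ := by
  classical
  have hg1' : g ≠ 1 := fun h => hg1 (by rw [h]; exact FreeGroup.norm_one)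
  set Pg : Set K := {y | y ∈ P ∧ α y ∈ ({g} : Set (FreeGroup ι))} with hPg
  set P' : Set K := {y | y ∈ P ∧ α y ∈ ({g}ᶜ : Set (FreeGroup ι))} with hP'
  have cPg : IsClosed Pg := h.lcP _
  have cP' : IsClosed P' := h.lcP _
  have hPP : P = Pg ∪ P' := by
    ext y
    simp only [hPg, hP', mem_union, mem_ofPred_eq, mem_singleton_iff, mem_compl_iff]
    tauto
  have hdisj : ∀ y ∈ Pg, y ∉ P' := fun y hy hy' => hy'.2 hy.2
  have hcov : Pg ∪ (P' ∪ Q) = univ := by rw [← union_assoc, ← hPP]; exact h.cover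
  -- a clopen subset of `K` disjoint from the rest is everything
  have key : ∀ W : Set K, IsClosed W → ∀ R : Set K, IsClosed R → W ∪ R = univ → Disjoint W R →
      W.Nonempty → W = univ := by
    intro W hW R hR hWR hd hne
    refine IsClopen.eq_univ ⟨hW, ?_⟩ hne
    have : W = Rᶜ := by
      ext y
      constructor
      · intro hy hy'
        exact disjoint_left.1 hd hy hy'
      · intro hy
        rcases (hWR.symm ▸ mem_univ y : y ∈ W ∪ R) with h1 | h1
        · exact h1
        · exact absurd h1 hy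
    rw [this]
    exact hR.isOpen_compl
  by_cases hne : Pg.Nonempty
  swap
  · -- the value `g` does not occur
    right
    refine ⟨a, P, Q, α, β, FP.erase g, FQ, ?_, ContinuousMap.HomotopicRel.refl a,
      meas_erase_lt hg⟩
    refine { h with finP := fun y hy => ?_ }
    refine Finset.mem_erase.2 ⟨fun h' => hne ⟨y, hy, h'⟩, h.finP y hy⟩
  by_cases hPQ : (Pg ∩ Q).Nonempty
  swap
  · -- `Pg` is everything
    left
    have hW := key Pg cPg (P' ∪ Q) (cP'.union h.closedQ) hcov (by
      rw [disjoint_left]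
      rintro y hy (hy' | hy')
      · exact hdisj y hy hy'
      · exact hPQ ⟨y, hy, hy'⟩) hne
    intro y
    have hy : y ∈ Pg := hW.symm ▸ mem_univ y
    exact h.mapsP y hy.1
  obtain ⟨q₀, hq₀, hq₀'⟩ := hPQ
  set i := c (a q₀) with hi
  have hrel : ∀ y ∈ Pg, y ∈ Q → β y = letter b (c (a y)) * g := fun y hy hy' => by
    rw [h.rel y hy.1 hy', show α y = g from hy.2]
  have hle : ∀ y ∈ Pg, y ∈ Q → (letter b (c (a y)) * g).norm ≤ g.norm := fun y hy hy' => by
    rw [← hrel y hy hy']
    exact hmax _ (h.finQ y hy')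
  have hci : ∀ y ∈ Pg, y ∈ Q → c (a y) = i := fun y hy hy' =>
    eq_of_norm_le (hle y hy hy') (hle q₀ hq₀ hq₀')
  have hEi : ∀ y ∈ Pg, y ∈ Q → a y ∈ {x | x ∈ E ∧ c x = i} := fun y hy hy' =>
    ⟨hE ▸ ⟨h.mapsP y hy.1, h.mapsQ y hy'⟩, hci y hy hy'⟩
  obtain ⟨A, oA, oA', hAU, hEA, hcomp⟩ := hU i
  -- all of `Pg` is mapped to `A`
  have hPgA : ∀ y ∈ Pg, a y ∈ A := by
    set W : Set K := {y | y ∈ Pg ∧ a y ∉ A} with hWdef
    set R : Set K := {y | y ∈ Pg ∧ a y ∈ A} with hRdef
    have hW : W = Pg ∩ (a ⁻¹' A)ᶜ := rfl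
    have cW : IsClosed W := by
      rw [hW]; exact cPg.inter (oA.preimage a.continuous).isClosed_compl
    have hR : R = Pg ∩ (a ⁻¹' (U \ A))ᶜ := by
      ext y
      simp only [hRdef, mem_ofPred_eq, mem_inter_iff, mem_compl_iff, mem_preimage, mem_sdiff, not_and,
        not_not]
      constructor
      · rintro ⟨h1, h2⟩; exact ⟨h1, fun _ => h2⟩
      · rintro ⟨h1, h2⟩; exact ⟨h1, h2 (h.mapsP y h1.1)⟩
    have cR : IsClosed R := by
      rw [hR]; exact cPg.inter (oA'.preimage a.continuous).isClosed_compl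
    intro y hy
    by_contra hyA
    have hu := key W cW (R ∪ (P' ∪ Q)) (cR.union (cP'.union h.closedQ)) (by
      rw [← hcov, ← union_assoc]
      congr 1
      ext z
      simp only [hWdef, hRdef, mem_union, mem_ofPred_eq]
      tauto) (by
      rw [disjoint_left]
      rintro z hz (hz' | hz' | hz')
      · exact hz.2 hz'.2
      · exact hdisj z hz.1 hz'
      · exact hz.2 (hEA _ (hEi z hz.1 hz').1 (hEi z hz.1 hz').2)) ⟨y, hy, hyA⟩
    have : q₀ ∈ W := hu.symm ▸ mem_univ q₀
    exact this.2 (hEA _ (hEi q₀ hq₀ hq₀').1 (hEi q₀ hq₀ hq₀').2)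
  -- compress
  have : CompactSpace ↥Pg := isCompact_iff_compactSpace.1 cPg.isCompact
  obtain ⟨H, H0, HA, HC, H1⟩ := hcomp ↥Pg {k | (k : K) ∈ Q}
    (h.closedQ.preimage continuous_subtype_val) (a.comp ⟨Subtype.val, continuous_subtype_val⟩)
    (fun k => hPgA k k.2) (fun k hk => hEi k k.2 hk)
  have HC' : ∀ t (k : Pg), (k : K) ∈ P' ∪ Q → H (t, k) = a k := by
    rintro t k (hk | hk)
    · exact absurd hk (hdisj k k.2)
    · exact HC t k hk
  obtain ⟨a', ha', ha'P⟩ := exists_glue cPg (cP'.union h.closedQ) hcov a H H0 HC'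
  have ha'R : ∀ y, y ∈ P' ∪ Q → a' y = a y := fun y hy => (ha'.fst_eq_snd hy).symm
  have hB : B ⊆ P' ∪ Q := by
    intro y hy
    rcases h.bd y hy with ⟨h1, h2⟩ | ⟨h1, h2⟩
    · left
      refine ⟨h1, ?_⟩
      rw [mem_compl_iff, mem_singleton_iff, h2]
      exact hg1'.symm
    · exact Or.inr h1
  have hhom : a.HomotopicRel a' B := by
    obtain ⟨F⟩ := ha'
    exact ⟨⟨F.toHomotopy, fun t x hx => F.prop t x (hB hx)⟩⟩
  right
  refine ⟨a', P', Q ∪ Pg, α, fun y => if y ∈ Pg then letter b i * g else β y, FP.erase g,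
    insert (letter b i * g) FQ, ?_, hhom, meas_move_lt hg ?_⟩
  swap
  · have := hle q₀ hq₀ hq₀'
    exact (head_of_norm_le this).2
  refine ⟨cP', h.closedQ.union cPg, ?_, ?_, ?_, ?_, ?_, ?_, ?_, ?_, ?_⟩
  · rw [union_comm Q, ← union_assoc, union_comm P', ← hPP]; exact h.cover
  · intro y hy
    rw [ha'R y (Or.inl hy)]
    exact h.mapsP y hy.1
  · rintro y (hy | hy)
    · rw [ha'R y (Or.inr hy)]
      exact h.mapsQ y hy
    · rw [ha'P ⟨y, hy⟩]
      have := (H1 ⟨y, hy⟩).1
      rw [hE] at this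
      exact this.2
  · intro S
    have : {y | y ∈ P' ∧ α y ∈ S} = {y | y ∈ P ∧ α y ∈ ({g}ᶜ ∩ S)} := by
      ext y
      simp only [hP', mem_ofPred_eq, mem_inter_iff]
      tauto
    rw [this]
    exact h.lcP _
  · intro S
    have hrw : {y | y ∈ Q ∪ Pg ∧ (if y ∈ Pg then letter b i * g else β y) ∈ S} =
        {y | y ∈ Q ∧ β y ∈ S} ∪ {y | y ∈ Pg ∧ letter b i * g ∈ S} := by
      ext y
      simp only [mem_ofPred_eq, mem_union]
      by_cases hy : y ∈ Pg
      · rw [if_pos hy]
        constructor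
        · rintro ⟨-, h2⟩; exact Or.inr ⟨hy, h2⟩
        · rintro (⟨h1, h2⟩ | ⟨h1, h2⟩)
          · refine ⟨Or.inl h1, ?_⟩
            rw [hrel y hy h1, hci y hy h1] at h2
            exact h2
          · exact ⟨Or.inr hy, h2⟩
      · rw [if_neg hy]
        tauto
    rw [hrw]
    refine (h.lcQ S).union ?_
    by_cases hS : letter b i * g ∈ S
    · have : {y | y ∈ Pg ∧ letter b i * g ∈ S} = Pg := by
        ext y; simp [hS]
      rw [this]; exact cPg
    · have : {y | y ∈ Pg ∧ letter b i * g ∈ S} = ∅ := by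
        ext y; simp [hS]
      rw [this]; exact isClosed_empty
  · rintro y hy (hy' | hy')
    · have hn : y ∉ Pg := fun h' => hdisj y h' hy
      rw [if_neg hn, ha'R y (Or.inl hy)]
      exact h.rel y hy.1 hy'
    · exact absurd hy (hdisj y hy')
  · intro y hy
    rcases h.bd y hy with ⟨h1, h2⟩ | ⟨h1, h2⟩
    · left
      refine ⟨⟨h1, ?_⟩, h2⟩
      rw [mem_compl_iff, mem_singleton_iff, h2]
      exact hg1'.symm
    · right
      refine ⟨Or.inl h1, ?_⟩
      split_ifs with hy'
      · rw [← hci y hy' h1, ← hrel y hy' h1]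
        exact h2
      · exact h2
  · intro y hy
    exact Finset.mem_erase.2 ⟨hy.2, h.finP y hy.1⟩
  · intro y hy
    split_ifs with hy'
    · exact Finset.mem_insert_self _ _
    · rcases hy with hy | hy
      · exact Finset.mem_insert_of_mem (h.finQ y hy)
      · exact absurd hy hy'

/-- **Core of Lemma Q**: the map can be deformed, relative to `B`, into `U` or into `V`. -/
theorem core (N : ℕ) : ∀ {U V E : Set T} (_ : E = U ∩ V) {c : T → ι} (_ : Side U E c)
    (_ : Side V E c) {b : Bool} {B : Set K} {a : C(K, T)} {P Q : Set K} {α β : K → FreeGroup ι}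
    {FP FQ : Finset (FreeGroup ι)} (_ : State U V c b B a P Q α β FP FQ) (_ : meas FP FQ ≤ N),
    ∃ a' : C(K, T), a.HomotopicRel a' B ∧ ((∀ y, a' y ∈ U) ∨ ∀ y, a' y ∈ V) := by
  induction N with
  | zero =>
    intro U V E hE c hU hV b B a P Q α β FP FQ h hN
    refine ⟨a, ContinuousMap.HomotopicRel.refl a, Or.inl fun y => ?_⟩
    exfalso
    rcases (h.cover.symm ▸ mem_univ y : y ∈ P ∪ Q) with hy | hy
    · have := meas_erase_lt (FQ := FQ) (h.finP y hy)
      omega
    · have := meas_erase_lt (FQ := FP) (h.finQ y hy)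
      rw [meas_comm FQ FP] at this
      omega
  | succ N ih =>
    intro U V E hE c hU hV b B a P Q α β FP FQ h hN
    by_cases hall : ∀ g ∈ FP ∪ FQ, g.norm = 0
    · -- all values are `1`
      have hPQ : Disjoint P Q := by
        rw [disjoint_left]
        intro y hy hy'
        have h1 : α y = 1 := FreeGroup.norm_eq_zero.1
          (hall _ (Finset.mem_union_left _ (h.finP y hy)))
        have h2 : β y = 1 := FreeGroup.norm_eq_zero.1
          (hall _ (Finset.mem_union_right _ (h.finQ y hy')))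
        have h3 := h.rel y hy hy'
        rw [h1, h2, mul_one] at h3
        exact letter_ne_one _ _ h3.symm
      refine ⟨a, ContinuousMap.HomotopicRel.refl a, ?_⟩
      have hcl : IsClopen P := by
        refine ⟨h.closedP, ?_⟩
        have : P = Qᶜ := by
          ext y
          constructor
          · intro hy hy'
            exact disjoint_left.1 hPQ hy hy'
          · intro hy
            rcases (h.cover.symm ▸ mem_univ y : y ∈ P ∪ Q) with h1 | h1
            · exact h1
            · exact absurd h1 hy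
        rw [this]
        exact h.closedQ.isOpen_compl
      rcases isClopen_iff.1 hcl with h0 | h1
      · right
        intro y
        refine h.mapsQ y ?_
        rcases (h.cover.symm ▸ mem_univ y : y ∈ P ∪ Q) with h1 | h1
        · rw [h0] at h1; exact absurd h1 (notMem_empty y)
        · exact h1
      · left
        intro y
        exact h.mapsP y (h1.symm ▸ mem_univ y)
    · push Not at hall
      obtain ⟨g₀, hg₀, hg₀'⟩ := hall
      obtain ⟨g, hg, hmax⟩ := Finset.exists_max_image (FP ∪ FQ) (fun g => g.norm) ⟨g₀, hg₀⟩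
      have hgn : g.norm ≠ 0 := by
        have := hmax g₀ hg₀
        omega
      rcases Finset.mem_union.1 hg with hgP | hgQ
      · rcases step hE hU h hgP hgn (fun g' hg' => hmax g' (Finset.mem_union_right _ hg')) with
          h1 | ⟨a', P', Q', α', β', FP', FQ', hst, hhom, hlt⟩
        · exact ⟨a, ContinuousMap.HomotopicRel.refl a, Or.inl h1⟩
        · obtain ⟨a'', h2, h3⟩ := ih hE hU hV hst (by omega)
          exact ⟨a'', hhom.trans h2, h3⟩
      · rcases step (hE.trans (inter_comm U V)) hV h.symm hgQ hgn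
          (fun g' hg' => hmax g' (Finset.mem_union_left _ hg')) with
          h1 | ⟨a', P', Q', α', β', FP', FQ', hst, hhom, hlt⟩
        · exact ⟨a, ContinuousMap.HomotopicRel.refl a, Or.inr h1⟩
        · obtain ⟨a'', h2, h3⟩ := ih (hE.trans (inter_comm U V)) hV hU hst
            (by rw [meas_comm FP FQ] at hN; omega)
          exact ⟨a'', hhom.trans h2, h3.symm⟩

end Groth.Agent.An.H897.Core
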