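import Mathlib.Topology.Homotopy.Lifting
import Mathlib.Topology.Covering.Quotient
import Mathlib.GroupTheory.Finiteness

/-!
# Finite generation of the fundamental group from a quotient covering

`p : E → T` is a quotient covering map with group `G`, `T` is path connected, and the fundamental
group injects into `G`.  If finitely many open path connected subsets `W j` of `E` map onto `T` and
`{g | g W j ∩ W k ≠ ∅}` is finite for all `j`, `k`, the fundamental group is finitely generated.
-/

open Set Topology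
open scoped unitInterval

namespace Groth.Agent.An.H897.FGCover

variable {E T : Type*} [TopologicalSpace E] [TopologicalSpace T] {G : Type*} [Group G]
  [MulAction G E] {p : E → T}

lemma joined_smul (hp : IsQuotientCoveringMap p G) (g : G) {e e' : E} (h : Joined e e') :
    Joined (g • e) (g • e') :=
  h.map (hp.continuous_const_smul g)

/-- The stabiliser of the path component of `e`. -/
def stab (hp : IsQuotientCoveringMap p G) (e : E) : Subgroup G where
  carrier := {g | Joined e (g • e)}
  one_mem' := by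
    change Joined e ((1 : G) • e)
    rw [one_smul]
  mul_mem' {a b} ha hb := by
    change Joined e ((a * b) • e)
    rw [mul_smul]
    exact Joined.trans ha (joined_smul hp a hb)
  inv_mem' {a} ha := by
    change Joined e (a⁻¹ • e)
    have h := joined_smul hp a⁻¹ (show Joined e (a • e) from ha)
    rw [inv_smul_smul] at h
    exact h.symm

lemma mem_stab (hp : IsQuotientCoveringMap p G) (e : E) (g : G) :
    g ∈ stab hp e ↔ Joined e (g • e) := Iff.rfl

/-- Every point of `T` lifts to the path component of `e`. -/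
lemma exists_joined_smul (hp : IsQuotientCoveringMap p G) [PathConnectedSpace T] (e w : E) :
    ∃ g : G, Joined e (g • w) := by
  let γ : Path (p e) (p w) := PathConnectedSpace.somePath (p e) (p w)
  let q := hp.isCoveringMap.liftPath γ e γ.source
  have hq0 : q 0 = e := IsCoveringMap.liftPath_zero ..
  have hq1 : p (q 1) = p w := by
    have := congrFun (hp.isCoveringMap.liftPath_lifts γ e γ.source) 1
    exact this.trans γ.target
  obtain ⟨g, hg⟩ := hp.apply_eq_iff_mem_orbit.1 hq1
  have hg : g • w = q 1 := hg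
  refine ⟨g, ?_⟩
  rw [hg, ← hq0]
  exact ⟨⟨q, rfl, rfl⟩⟩

/-- Macbeath's argument. -/
lemma stab_eq_closure (hp : IsQuotientCoveringMap p G) (e : E)
    {W : Set E} (oW : IsOpen W) (hWne : W.Nonempty) (hW : ∀ w ∈ W, Joined e w)
    (hcov : ∀ y : T, ∃ w ∈ W, p w = y) :
    stab hp e = Subgroup.closure {g | g ∈ stab hp e ∧ ((g • ·) '' W ∩ W).Nonempty} := by
  set S : Set G := {g | g ∈ stab hp e ∧ ((g • ·) '' W ∩ W).Nonempty} with hS
  have hle : Subgroup.closure S ≤ stab hp e := by
    rw [Subgroup.closure_le]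
    exact fun g hg => hg.1
  refine le_antisymm ?_ hle
  have oimg : ∀ g : G, IsOpen ((g • ·) '' W) := fun g => by
    have : (g • ·) '' W = (g⁻¹ • ·) ⁻¹' W := by
      ext y
      constructor
      · rintro ⟨w, hw, rfl⟩
        simpa using hw
      · intro hy
        exact ⟨g⁻¹ • y, hy, by simp⟩
    rw [this]
    exact oW.preimage (hp.continuous_const_smul g⁻¹)
  set A : Set E := ⋃ g ∈ Subgroup.closure S, (g • ·) '' W with hA
  set B : Set E := ⋃ g ∈ {g | g ∈ stab hp e ∧ g ∉ Subgroup.closure S}, (g • ·) '' W with hB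
  have oA : IsOpen A := isOpen_biUnion fun g _ => oimg g
  have oB : IsOpen B := isOpen_biUnion fun g _ => oimg g
  have hmeet : ∀ g h : G, g ∈ stab hp e → h ∈ stab hp e → ∀ w ∈ W, ∀ w' ∈ W, g • w = h • w' →
      g⁻¹ * h ∈ Subgroup.closure S := by
    intro g h hg hh w hw w' hw' heq
    refine Subgroup.subset_closure ⟨mul_mem (inv_mem hg) hh, w, ⟨w', hw', ?_⟩, hw⟩
    change (g⁻¹ * h) • w' = w
    rw [mul_smul, ← heq, inv_smul_smul]
  have hAB : Disjoint A B := by
    rw [disjoint_left]
    intro y hyA hyB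
    simp only [hA, hB, mem_iUnion] at hyA hyB
    obtain ⟨g, hg, w, hw, hgw⟩ := hyA
    obtain ⟨h, ⟨hh, hh'⟩, w', hw', hhw⟩ := hyB
    have hgw : g • w = y := hgw
    have hhw : h • w' = y := hhw
    have := hmeet g h (hle hg) hh w hw w' hw' (hgw.trans hhw.symm)
    apply hh'
    have h2 := mul_mem hg this
    rwa [mul_inv_cancel_left] at h2
  have hJ : pathComponent e ⊆ A ∪ B := by
    intro y hy
    have hy : Joined e y := hy
    obtain ⟨w, hw, hpw⟩ := hcov (p y)
    obtain ⟨g, hg⟩ := hp.apply_eq_iff_mem_orbit.1 hpw.symm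
    have hg : g • w = y := hg
    have hgs : g ∈ stab hp e := by
      rw [mem_stab]
      refine hy.trans ?_
      rw [← hg]
      exact joined_smul hp g (hW w hw).symm
    by_cases hgc : g ∈ Subgroup.closure S
    · left
      simp only [hA, mem_iUnion]
      exact ⟨g, hgc, w, hw, hg⟩
    · right
      simp only [hB, mem_iUnion]
      exact ⟨g, ⟨hgs, hgc⟩, w, hw, hg⟩
  obtain ⟨w₀, hw₀⟩ := hWne
  have hJA : pathComponent e ⊆ A := by
    refine IsPreconnected.subset_left_of_subset_union oA oB hAB hJ ?_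
      isPathConnected_pathComponent.isConnected.isPreconnected
    refine ⟨w₀, hW w₀ hw₀, ?_⟩
    simp only [hA, mem_iUnion]
    exact ⟨1, one_mem _, w₀, hw₀, one_smul _ _⟩
  intro g hg
  have h1 : g • w₀ ∈ pathComponent e := by
    change Joined e (g • w₀)
    exact Joined.trans hg (joined_smul hp g (hW w₀ hw₀))
  have h2 := hJA h1
  simp only [hA, mem_iUnion] at h2
  obtain ⟨h, hh, w, hw, hhw⟩ := h2
  have hhw : h • w = g • w₀ := hhw
  have h3 := hmeet h g (hle hh) hg w hw w₀ hw₀ hhw
  have h4 := mul_mem hh h3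
  rwa [mul_inv_cancel_left] at h4

/-- **Finite generation.** -/
theorem fg (hp : IsQuotientCoveringMap p G) [PathConnectedSpace T] {x : T} (e : p ⁻¹' {x})
    (hinj : Function.Injective (hp.fundamentalGroupToMulOpposite e)) {J : Type*} [Finite J]
    (W : J → Set E) (oW : ∀ j, IsOpen (W j)) (cW : ∀ j, IsPathConnected (W j))
    (hcov : ∀ y : T, ∃ j, ∃ w ∈ W j, p w = y)
    (hfin : ∀ j k, {g : G | ((g • ·) '' W j ∩ W k).Nonempty}.Finite) :
    Group.FG (FundamentalGroup T x) := by
  -- translate the `W j` into the path component of `e`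
  have h1 : ∀ j, ∃ g : G, ∀ w ∈ W j, Joined (e : E) (g • w) := by
    intro j
    obtain ⟨w₀, hw₀⟩ := (cW j).nonempty
    obtain ⟨g, hg⟩ := exists_joined_smul hp (e : E) w₀
    refine ⟨g, fun w hw => hg.trans (joined_smul hp g ?_)⟩
    exact ((cW j).joinedIn w₀ hw₀ w hw).joined
  choose t ht using h1
  let W' : Set E := ⋃ j, (t j • ·) '' W j
  have oW' : IsOpen W' := by
    refine isOpen_iUnion fun j => ?_
    have : (t j • ·) '' W j = ((t j)⁻¹ • ·) ⁻¹' W j := by
      ext y
      constructor
      · rintro ⟨w, hw, rfl⟩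
        simpa using hw
      · intro hy
        exact ⟨(t j)⁻¹ • y, hy, by simp⟩
    rw [this]
    exact (oW j).preimage (hp.continuous_const_smul _)
  have hW' : ∀ w ∈ W', Joined (e : E) w := by
    intro w hw
    obtain ⟨j, w', hw', rfl⟩ := mem_iUnion.1 hw
    exact ht j w' hw'
  have hcov' : ∀ y : T, ∃ w ∈ W', p w = y := by
    intro y
    obtain ⟨j, w, hw, hpw⟩ := hcov y
    refine ⟨t j • w, mem_iUnion.2 ⟨j, w, hw, rfl⟩, ?_⟩
    rw [hp.map_smul, hpw]
  have hne' : W'.Nonempty := by
    obtain ⟨w, hw, -⟩ := hcov' x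
    exact ⟨w, hw⟩
  have hcl := stab_eq_closure hp (e : E) oW' hne' hW' hcov'
  have hSfin : {g | g ∈ stab hp (e : E) ∧ ((g • ·) '' W' ∩ W').Nonempty}.Finite := by
    have hsub : {g | g ∈ stab hp (e : E) ∧ ((g • ·) '' W' ∩ W').Nonempty} ⊆
        ⋃ jk : J × J, (fun g => (t jk.2)⁻¹ * g * t jk.1) ⁻¹'
          {g : G | ((g • ·) '' W jk.1 ∩ W jk.2).Nonempty} := by
      rintro g ⟨-, y, ⟨w, hw, hgw⟩, hy⟩
      obtain ⟨j, w1, hw1, hw1'⟩ := mem_iUnion.1 hw
      obtain ⟨k, w2, hw2, hw2'⟩ := mem_iUnion.1 hy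
      have hw1' : t j • w1 = w := hw1'
      have hw2' : t k • w2 = y := hw2'
      have hgw : g • w = y := hgw
      refine mem_iUnion.2 ⟨(j, k), w2, ⟨w1, hw1, ?_⟩, hw2⟩
      change ((t k)⁻¹ * g * t j) • w1 = w2
      rw [mul_smul, mul_smul, hw1', hgw, ← hw2', inv_smul_smul]
    refine (finite_iUnion fun jk => ?_).subset hsub
    refine (hfin jk.1 jk.2).preimage ?_
    intro a _ b _ hab
    have hab : (t jk.2)⁻¹ * a * t jk.1 = (t jk.2)⁻¹ * b * t jk.1 := hab
    exact mul_left_cancel (mul_right_cancel hab)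
  -- the homomorphism to `G`
  let ψ : FundamentalGroup T x →* G :=
    (MulEquiv.inv' G).symm.toMonoidHom.comp (hp.fundamentalGroupToMulOpposite e)
  have hψ : Function.Injective ψ :=
    Function.Injective.comp (g := (MulEquiv.inv' G).symm) (MulEquiv.injective _) hinj
  have hψ' : ∀ γ, ψ γ = ((hp.fundamentalGroupToMulOpposite e γ).unop)⁻¹ := fun γ => rfl
  have hrange : ψ.range = stab hp (e : E) := by
    ext g
    constructor
    · rintro ⟨γ, rfl⟩
      rw [hψ']
      refine inv_mem ?_
      rw [mem_stab, hp.unop_fundamentalGroupToMulOpposite_smul]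
      induction γ using Quotient.inductionOn with | _ q => ?_
      let q' := hp.isCoveringMap.liftPath q e (q.source.trans e.2.symm)
      have hq0 : q' 0 = e := IsCoveringMap.liftPath_zero ..
      exact ⟨⟨q', hq0, rfl⟩⟩
    · intro hg
      have hg := inv_mem hg
      rw [mem_stab] at hg
      obtain ⟨Γ⟩ := hg
      have hpg : p (g⁻¹ • (e : E)) = x := (hp.map_smul g⁻¹).trans e.2
      let e' : p ⁻¹' {x} := ⟨g⁻¹ • (e : E), hpg⟩
      let γ : Path x x := (Γ.map hp.continuous).cast e.2.symm hpg.symm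
      refine ⟨.fromPath ⟦γ⟧, ?_⟩
      rw [hψ']
      have h2 : hp.fundamentalGroupToMulOpposite e (.fromPath ⟦γ⟧) = MulOpposite.op g⁻¹ := by
        rw [hp.fundamentalGroupToMulOpposite_apply_eq_Iff]
        change (e' : E) = _
        rw [← hp.isCoveringMap.monodromy_eq_of_map_eq (γ := ⟦γ⟧) (ex := e) (ey := e')
          (Γ := ⟦Γ⟧) rfl]
      rw [h2]
      simp
  have hfg : (ψ.range).FG := by
    rw [hrange, hcl]
    exact (Subgroup.fg_iff _).2 ⟨_, rfl, hSfin⟩
  have h5 : Group.FG ψ.range := (Group.fg_iff_subgroup_fg _).2 hfg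
  exact Group.fg_of_surjective (f := (MonoidHom.ofInjective hψ).symm.toMonoidHom)
    (MonoidHom.ofInjective hψ).symm.surjective

end Groth.Agent.An.H897.FGCover
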