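import Groth.Agent.An.H897.Pi1
import Groth.Agent.An.H897.FGCover

/-!
# Lemma Q: main theorems

`T = U ∪ V` open, `c : T → ι` locally constant on `U ∩ V`, compressible pieces (`Core.Side`),
contractible clopen pieces (`PiN.Pieces`).  Then `π_n(T, x) = 0` for `n ≥ 2`
(`PiN.subsingleton_homotopyGroup`), `π_1(T, x)` is free (`Pi1.isFreeGroup`), and finitely generated
if `ι` is finite, `T` connected and the pieces of `U ∩ V` are connected (`fundamentalGroup_fg`).
-/

open Set Topology
open scoped unitInterval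

namespace Groth.Agent.An.H897.Main

open Core FreeWord PiN Cover Pi1

variable {T : Type*} [TopologicalSpace T] {ι : Type*}

lemma subset_of_clopen_in {U D C : Set T} (oD : IsOpen D) (oD' : IsOpen (U \ D))
    (hC : IsPreconnected C) (hCU : C ⊆ U) (hne : (C ∩ D).Nonempty) : C ⊆ D :=
  hC.subset_left_of_subset_union oD oD' disjoint_sdiff_right
    (fun x hx => by
      by_cases h : x ∈ D
      · exact Or.inl h
      · exact Or.inr ⟨hCU hx, h⟩) hne

lemma pathConnectedSpace_of_pieces [ConnectedSpace T] {U V : Set T} (hUV : U ∪ V = univ)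
    (pU : Pieces U) (pV : Pieces V) : PathConnectedSpace T := by
  have hnb : ∀ x : T, ∃ D : Set T, x ∈ D ∧ IsOpen D ∧ IsPathConnected D := by
    intro x
    rcases (hUV.symm ▸ mem_univ x : x ∈ U ∪ V) with h | h
    · obtain ⟨D, -, hx, oD, -, _⟩ := pU x h
      exact ⟨D, hx, oD, isPathConnected_iff_pathConnectedSpace.2 inferInstance⟩
    · obtain ⟨D, -, hx, oD, -, _⟩ := pV x h
      exact ⟨D, hx, oD, isPathConnected_iff_pathConnectedSpace.2 inferInstance⟩
  have hopen : ∀ x : T, IsOpen (pathComponent x) := by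
    intro x
    rw [isOpen_iff_mem_nhds]
    intro y hy
    obtain ⟨D, hyD, oD, cD⟩ := hnb y
    filter_upwards [oD.mem_nhds hyD] with z hz
    exact Joined.trans hy (cD.joinedIn y hyD z hz).joined
  have hclosed : ∀ x : T, IsClosed (pathComponent x) := by
    intro x
    rw [← isOpen_compl_iff, isOpen_iff_mem_nhds]
    intro y hy
    filter_upwards [(hopen y).mem_nhds (mem_pathComponent_self y)] with z hz hxz
    exact hy (Joined.trans hxz (Joined.symm hz))
  refine ⟨inferInstance, fun x y => ?_⟩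
  have : pathComponent x = univ :=
    IsClopen.eq_univ ⟨hclosed x, hopen x⟩ (pathComponent.nonempty x)
  have hy : y ∈ pathComponent x := this ▸ mem_univ y
  exact hy

variable {U V : Set T} (hU : IsOpen U) (hV : IsOpen V) (hUV : U ∪ V = univ)
  {c : T → ι} (hc : ∀ x ∈ U ∩ V, ∀ᶠ y in 𝓝 x, c y = c x)
  (sU : Side U (U ∩ V) c) (sV : Side V (U ∩ V) c) (pU : Pieces U) (pV : Pieces V)

/-- A contractible space has trivial fundamental group. -/
lemma fg_of_contractible [ContractibleSpace T] (x : T) : Group.FG (FundamentalGroup T x) := by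
  have : Subsingleton (FundamentalGroup T x) := by
    have h1 := Null.subsingleton_homotopyGroup (N := Fin 1) x
    exact (homotopyGroupEquivFundamentalGroupOfUnique (Fin 1) (X := T) (x := x)).symm.subsingleton
  infer_instance

include hU hV hUV hc sU sV pU pV in
/-- **The fundamental group is finitely generated.** -/
theorem fundamentalGroup_fg [ConnectedSpace T] [Finite ι]
    (hE : ∀ i, IsPreconnected {x | x ∈ U ∩ V ∧ c x = i}) (x : T) :
    Group.FG (FundamentalGroup T x) := by
  classical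
  let _ : TopologicalSpace (FreeGroup ι) := ⊥
  have _ : DiscreteTopology (FreeGroup ι) := ⟨rfl⟩
  have _ := pathConnectedSpace_of_pieces hUV pU pV
  -- the trivial case: one piece is everything
  by_cases htriv : ∃ D : Set T, ContractibleSpace D ∧ D = univ
  · obtain ⟨D, hD, rfl⟩ := htriv
    have _ : ContractibleSpace T := (Homeomorph.Set.univ T).symm.contractibleSpace
    exact fg_of_contractible x
  -- every piece meets the other side
  have key : ∀ (U V : Set T), IsOpen V → U ∪ V = univ → ∀ D ⊆ U, D.Nonempty → IsOpen D →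
      IsOpen (U \ D) → ContractibleSpace D → (D ∩ V).Nonempty := by
    intro U V hV hUV D hDU hne oD oD' hcD
    by_contra hcon
    rw [not_nonempty_iff_eq_empty] at hcon
    apply htriv
    refine ⟨D, hcD, IsClopen.eq_univ ⟨?_, oD⟩ hne⟩
    rw [← isOpen_compl_iff]
    have : Dᶜ = (U \ D) ∪ V := by
      ext z
      constructor
      · intro hz
        rcases (hUV.symm ▸ mem_univ z : z ∈ U ∪ V) with h | h
        · exact Or.inl ⟨h, hz⟩
        · exact Or.inr h
      · rintro (hz | hz) hzD
        · exact hz.2 hzD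
        · have : z ∈ D ∩ V := ⟨hzD, hz⟩
          rw [hcon] at this
          exact this
    rw [this]
    exact oD'.union hV
  let Idx := {i : ι // {x | x ∈ U ∩ V ∧ c x = i}.Nonempty}
  let pt : Idx → T := fun i => i.2.choose
  have hpt : ∀ i : Idx, pt i ∈ U ∩ V ∧ c (pt i) = i := fun i => i.2.choose_spec
  choose DU hDU hxDU oDU oDU' cDU using fun i : Idx => pU (pt i) (hpt i).1.1
  choose DV hDV hxDV oDV oDV' cDV using fun i : Idx => pV (pt i) (hpt i).1.2
  -- every point lies in one of these pieces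
  have hcovU : ∀ y ∈ U, ∃ i : Idx, y ∈ DU i := by
    intro y hy
    obtain ⟨D, hDsub, hyD, oD, oD', cD⟩ := pU y hy
    obtain ⟨z, hzD, hzV⟩ := key U V hV hUV D hDsub ⟨y, hyD⟩ oD oD' cD
    let i : Idx := ⟨c z, ⟨z, ⟨hDsub hzD, hzV⟩, rfl⟩⟩
    have h1 : pt i ∈ D := subset_of_clopen_in oD oD' (hE i.1) (fun w hw => hw.1.1)
      ⟨z, ⟨⟨hDsub hzD, hzV⟩, rfl⟩, hzD⟩ (hpt i)
    have cD' : IsPathConnected D := isPathConnected_iff_pathConnectedSpace.2 inferInstance
    have h2 : D ⊆ DU i := subset_of_clopen_in (oDU i) (oDU' i) cD'.isConnected.isPreconnected hDsub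
      ⟨pt i, h1, hxDU i⟩
    exact ⟨i, h2 hyD⟩
  have hcovV : ∀ y ∈ V, ∃ i : Idx, y ∈ DV i := by
    intro y hy
    obtain ⟨D, hDsub, hyD, oD, oD', cD⟩ := pV y hy
    obtain ⟨z, hzD, hzU⟩ := key V U hU (by rw [union_comm]; exact hUV) D hDsub ⟨y, hyD⟩ oD oD' cD
    let i : Idx := ⟨c z, ⟨z, ⟨hzU, hDsub hzD⟩, rfl⟩⟩
    have h1 : pt i ∈ D := subset_of_clopen_in oD oD' (hE i.1) (fun w hw => hw.1.2)
      ⟨z, ⟨⟨hzU, hDsub hzD⟩, rfl⟩, hzD⟩ (hpt i)
    have cD' : IsPathConnected D := isPathConnected_iff_pathConnectedSpace.2 inferInstance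
    have h2 : D ⊆ DV i := subset_of_clopen_in (oDV i) (oDV' i) cD'.isConnected.isPreconnected hDsub
      ⟨pt i, h1, hxDV i⟩
    exact ⟨i, h2 hyD⟩
  let C := coc hU hV hUV hc
  let e : C.pr ⁻¹' {x} := ⟨C.point x 1, rfl⟩
  let W : Idx × Bool → Set C.E := fun j => if j.2 then C.sheet true (DU j.1) 1
    else C.sheet false (DV j.1) 1
  have hWt : ∀ i, W (i, true) = C.sheet true (DU i) 1 := fun i => rfl
  have hWf : ∀ i, W (i, false) = C.sheet false (DV i) 1 := fun i => rfl
  refine FGCover.fg C.isQuotientCoveringMap e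
    (Function.Injective.of_comp (f := (MulEquiv.inv' (FreeGroup ι)).symm)
      (mono_injective hU hV hUV hc sU sV pU pV e)) W ?_ ?_ ?_ ?_
  · rintro ⟨i, s⟩
    cases s
    · rw [hWf]; exact C.isOpen_sheet false (oDV i) (hDV i) 1
    · rw [hWt]; exact C.isOpen_sheet true (oDU i) (hDU i) 1
  · rintro ⟨i, s⟩
    cases s
    · rw [hWf]
      have := cDV i
      exact C.isPathConnected_sheet false (isPathConnected_iff_pathConnectedSpace.2 inferInstance)
        (hDV i) 1
    · rw [hWt]
      have := cDU i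
      exact C.isPathConnected_sheet true (isPathConnected_iff_pathConnectedSpace.2 inferInstance)
        (hDU i) 1
  · intro y
    rcases (hUV.symm ▸ mem_univ y : y ∈ U ∪ V) with h | h
    · obtain ⟨i, hi⟩ := hcovU y h
      obtain ⟨τ, -, hτ⟩ := C.exists_section true (1 : FreeGroup ι)
      refine ⟨(i, true), τ y, ?_, (hτ y h).1⟩
      rw [hWt]
      exact ⟨by rw [(hτ y h).1]; exact hi, (hτ y h).2⟩
    · obtain ⟨i, hi⟩ := hcovV y h
      obtain ⟨τ, -, hτ⟩ := C.exists_section false (1 : FreeGroup ι)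
      refine ⟨(i, false), τ y, ?_, (hτ y h).1⟩
      rw [hWf]
      exact ⟨by rw [(hτ y h).1]; exact hi, (hτ y h).2⟩
  · rintro ⟨i, s⟩ ⟨k, s'⟩
    have hfin : (({1} : Set (FreeGroup ι)) ∪ range (FreeGroup.of (α := ι)) ∪
        range (fun i : ι => (FreeGroup.of i)⁻¹)).Finite :=
      ((finite_singleton _).union (finite_range _)).union (finite_range _)
    refine hfin.subset ?_
    rintro g ⟨z, ⟨w, hw, hgw⟩, hz⟩
    have hgw : g • w = z := hgw
    cases s <;> cases s'
    · rw [hWf] at hw hz
      left; left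
      have h1 := C.coord_smul false g w
      rw [hgw, hz.2, hw.2, one_mul] at h1
      exact (inv_eq_one.1 h1.symm)
    · rw [hWf] at hw
      rw [hWt] at hz
      right
      have h1 := C.coord_smul false g w
      rw [hgw, hw.2, one_mul] at h1
      have hprz : C.pr z = C.pr w := by rw [← hgw]; rfl
      have h2 := C.coord_false_eq z (hDU k hz.1) (hprz ▸ hDV i hw.1)
      rw [h1, hz.2, mul_one] at h2
      refine ⟨c (C.pr z), ?_⟩
      change (FreeGroup.of (c (C.pr z)))⁻¹ = g
      have h3 : g⁻¹ = FreeGroup.of (c (C.pr z)) := h2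
      rw [← h3, inv_inv]
    · rw [hWt] at hw
      rw [hWf] at hz
      left; right
      have h1 := C.coord_smul true g w
      rw [hgw, hw.2, one_mul] at h1
      have hprz : C.pr z = C.pr w := by rw [← hgw]; rfl
      have h2 := C.coord_false_eq z (hprz ▸ hDU i hw.1) (hDV k hz.1)
      rw [h1, hz.2] at h2
      refine ⟨c (C.pr z), ?_⟩
      have h3 : (1 : FreeGroup ι) = FreeGroup.of (c (C.pr z)) * g⁻¹ := h2
      exact (eq_mul_inv_iff_mul_eq.1 h3 ▸ (one_mul g).symm).symm
    · rw [hWt] at hw hz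
      left; left
      have h1 := C.coord_smul true g w
      rw [hgw, hz.2, hw.2, one_mul] at h1
      exact (inv_eq_one.1 h1.symm)

end Groth.Agent.An.H897.Main
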