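import Mathlib.Topology.Homotopy.Lifting
import Mathlib.Topology.Homotopy.Contractible
import Mathlib.Topology.FiberBundle.Basic

/-!
# Trivialising a locally constant cocycle of a two-set open cover along a map from a contractible space

`T = U ∪ V`, `g : T → G` locally constant on `U ∩ V`.  The principal `G`-bundle with transition
function `g` is a covering space of `T`; a map `a : K → T` from a contractible space lifts to it,
which gives functions `α`, `β : K → G`, locally constant on `a ⁻¹' U` and `a ⁻¹' V`, with
`β = g(a) α` on the overlap.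
-/

open Set Topology
open scoped unitInterval

namespace Groth.Agent.An.H897.Lift

variable {T : Type*} [TopologicalSpace T] {G : Type*} [Group G]

open Classical in
/-- The fibre bundle core of the cocycle `g` on the cover `U`, `V`. -/
noncomputable def zcore [TopologicalSpace G] [DiscreteTopology G] (U V : Set T) (hU : IsOpen U)
    (hV : IsOpen V) (hUV : U ∪ V = univ) (g : T → G) (hg : ∀ x ∈ U ∩ V, ∀ᶠ y in 𝓝 x, g y = g x) :
    FiberBundleCore Bool T G where
  baseSet b := if b then U else V
  isOpen_baseSet b := by cases b <;> simp [hU, hV]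
  indexAt x := decide (x ∈ U)
  mem_baseSet_at x := by
    by_cases hx : x ∈ U
    · simp [hx]
    · simp only [hx, decide_false, Bool.false_eq_true, ↓reduceIte]
      rcases (hUV.symm ▸ mem_univ x : x ∈ U ∪ V) with h | h
      · exact absurd h hx
      · exact h
  coordChange b b' x v := if b = b' then v else if b then g x * v else (g x)⁻¹ * v
  coordChange_self b x _ v := by simp
  continuousOn_coordChange b b' := by
    have hgen : ∀ (s : Bool), ContinuousOn
        (fun p : T × G => if s then g p.1 * p.2 else (g p.1)⁻¹ * p.2) ((U ∩ V) ×ˢ univ) := by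
      intro s
      rintro ⟨x, v⟩ ⟨hx, -⟩
      apply ContinuousAt.continuousWithinAt
      apply (continuousAt_const (y := if s then g x * v else (g x)⁻¹ * v)).congr
      have h1 := hg x hx
      have h2 : ∀ᶠ w in 𝓝 v, w = v := by
        rw [nhds_discrete]; exact Filter.eventually_pure.2 rfl
      filter_upwards [h1.prod_nhds h2] with p hp
      rw [hp.1, hp.2]
    cases b <;> cases b'
    · simpa using continuousOn_snd
    · simpa [inter_comm] using hgen false
    · simpa using hgen true
    · simpa using continuousOn_snd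
  coordChange_comp b b' b'' x _ v := by
    cases b <;> cases b' <;> cases b'' <;> simp

/-- Trivialisation of the pulled back cocycle. -/
theorem exists_triv {U V : Set T} (hU : IsOpen U) (hV : IsOpen V) (hUV : U ∪ V = univ) (g : T → G)
    (hg : ∀ x ∈ U ∩ V, ∀ᶠ y in 𝓝 x, g y = g x) {K : Type*} [TopologicalSpace K]
    [ContractibleSpace K] (a : C(K, T)) :
    ∃ α β : K → G, (∀ k, a k ∈ U → ∀ᶠ z in 𝓝 k, α z = α k) ∧
      (∀ k, a k ∈ V → ∀ᶠ z in 𝓝 k, β z = β k) ∧ ∀ k, a k ∈ U → a k ∈ V → β k = g (a k) * α k := by
  classical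
  let _ : TopologicalSpace G := ⊥
  have _ : DiscreteTopology G := ⟨rfl⟩
  set Z := zcore U V hU hV hUV g hg with hZ
  have hcov : IsCoveringMap (Bundle.TotalSpace.proj : Z.TotalSpace → T) :=
    FiberBundle.isCoveringMap (F := G) (E := Z.Fiber)
  obtain ⟨k₀, ⟨H'⟩⟩ := id_nullhomotopic K
  let H : C(I × K, T) := a.comp H'.symm.toContinuousMap
  have H0 : ∀ k, H (0, k) = a k₀ := fun k => by
    change a (H'.symm (0, k)) = a k₀
    rw [ContinuousMap.Homotopy.apply_zero]
    rfl
  have H1 : ∀ k, H (1, k) = a k := fun k => by
    change a (H'.symm (1, k)) = a k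
    rw [ContinuousMap.Homotopy.apply_one]
    rfl
  let e : Z.TotalSpace := ⟨a k₀, (1 : G)⟩
  let L : C(I × K, Z.TotalSpace) := hcov.liftHomotopy H (ContinuousMap.const K e) H0
  have hL : ∀ z, (L z).proj = H z := fun z => congrFun (hcov.liftHomotopy_lifts H _ H0) z
  let b : C(K, Z.TotalSpace) := L.comp ⟨fun k => (1, k), by fun_prop⟩
  have hb : ∀ k, (b k).proj = a k := fun k => (hL (1, k)).trans (H1 k)
  have hbase : ∀ s : Bool, Z.baseSet s = if s then U else V := fun s => rfl
  have hct : ∀ x v, Z.coordChange true false x v = g x * v := fun x v => by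
    rw [hZ]; simp [zcore]
  have hlc : ∀ s : Bool, ∀ k, a k ∈ (if s then U else V) →
      ∀ᶠ z in 𝓝 k, (Z.localTriv s (b z)).2 = (Z.localTriv s (b k)).2 := by
    intro s k hk
    have hsrc : b k ∈ (Z.localTriv s).source := by
      rw [FiberBundleCore.mem_localTriv_source, hb k, ← FiberBundleCore.baseSet_at]
      exact hk
    have hc : ContinuousAt (fun z => (Z.localTriv s (b z)).2) k :=
      continuousAt_snd.comp (((Z.localTriv s).continuousAt hsrc).comp b.continuous.continuousAt)
    have := hc.eventually (p := fun v => v = (Z.localTriv s (b k)).2) (by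
      rw [nhds_discrete]; exact Filter.eventually_pure.2 rfl)
    exact this
  refine ⟨fun k => (Z.localTriv true (b k)).2, fun k => (Z.localTriv false (b k)).2,
    fun k hk => hlc true k (by simpa using hk), fun k hk => hlc false k (by simpa using hk), ?_⟩
  intro k hkU hkV
  change Z.coordChange (Z.indexAt (b k).1) false (b k).1 (b k).2 =
    g (a k) * Z.coordChange (Z.indexAt (b k).1) true (b k).1 (b k).2
  have hbk : (b k).1 = a k := hb k
  have hmem := Z.mem_baseSet_at (b k).1
  have hcc := Z.coordChange_comp (Z.indexAt (b k).1) true false (b k).1 (by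
    refine ⟨⟨hmem, ?_⟩, ?_⟩
    · rw [hbase, hbk]; simpa using hkU
    · rw [hbase, hbk]; simpa using hkV) (b k).2
  rw [← hcc, hbk]
  exact hct (a k) _

end Groth.Agent.An.H897.Lift
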