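import Mathlib.Topology.Homotopy.HomotopyGroup
import Mathlib.Topology.Homotopy.Contractible

/-!
# Generalised loops in a contractible space are null-homotopic relative to the boundary
-/

open Set Topology
open scoped unitInterval

namespace Groth.Agent.An.H897.Null

open scoped Topology.Homotopy

lemma continuousMul_unitInterval : ContinuousMul I :=
  ⟨Continuous.subtype_mk (by fun_prop) _⟩

attribute [local instance] continuousMul_unitInterval

/-- Clamp a real number to the unit interval. -/
noncomputable def clamp (u : ℝ) : I := Set.projIcc 0 1 zero_le_one u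

@[fun_prop]
lemma continuous_clamp : Continuous clamp := continuous_projIcc (h := zero_le_one)

lemma clamp_of_le {u : ℝ} (h : u ≤ 0) : clamp u = 0 := Set.projIcc_of_le_left _ h

lemma clamp_of_ge {u : ℝ} (h : 1 ≤ u) : clamp u = 1 := Set.projIcc_of_right_le _ h

lemma clamp_coe (u : I) : clamp (u : ℝ) = u := Set.projIcc_val _ u

/-- The stretching of the unit interval: identity for `t = 0`, constant near the end points for
`t = 1`. -/
noncomputable def stretch (t u : I) : I := clamp ((u : ℝ) + t * (2 * u - 1))

@[fun_prop]
lemma continuous_stretch : Continuous fun z : I × I => stretch z.1 z.2 := by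
  unfold stretch
  fun_prop

lemma stretch_zero (u : I) : stretch 0 u = u := by
  simp [stretch, clamp_coe]

lemma stretch_left (t : I) : stretch t 0 = 0 := by
  apply clamp_of_le
  have := t.2.1
  simp
  linarith

lemma stretch_right (t : I) : stretch t 1 = 1 := by
  apply clamp_of_ge
  have := t.2.1
  simp
  linarith

lemma stretch_one_of_le {u : I} (h : 3 * (u : ℝ) ≤ 1) : stretch 1 u = 0 := by
  apply clamp_of_le
  simp
  linarith

lemma stretch_one_of_ge {u : I} (h : 2 ≤ 3 * (u : ℝ)) : stretch 1 u = 1 := by
  apply clamp_of_ge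
  simp
  linarith

/-- The plateau function on the interval. -/
noncomputable def bump (u : I) : I := clamp (3 * u) * clamp (3 * (1 - u))

@[fun_prop]
lemma continuous_bump : Continuous bump := by
  unfold bump
  fun_prop

lemma bump_zero : bump 0 = 0 := by
  unfold bump
  rw [clamp_of_le (by simp)]
  simp

lemma bump_one : bump 1 = 0 := by
  unfold bump
  rw [clamp_of_le (u := 3 * (1 - ((1 : I) : ℝ))) (by simp)]
  simp

lemma bump_eq_one {u : I} (h1 : 1 < 3 * (u : ℝ)) (h2 : 3 * (u : ℝ) < 2) : bump u = 1 := by
  unfold bump
  rw [clamp_of_ge (by linarith), clamp_of_ge (by linarith)]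
  simp

variable {N : Type*} [Fintype N]

/-- The plateau function on the cube. -/
noncomputable def plateau (s : N → I) : I := ∏ i, bump (s i)

@[fun_prop]
lemma continuous_plateau : Continuous (plateau : (N → I) → I) := by
  unfold plateau
  fun_prop

lemma plateau_boundary {s : N → I} (hs : s ∈ Cube.boundary N) : plateau s = 0 := by
  obtain ⟨i, hi⟩ := hs
  apply Finset.prod_eq_zero (Finset.mem_univ i)
  rcases hi with hi | hi
  · rw [hi]; exact bump_zero
  · rw [hi]; exact bump_one

lemma plateau_eq_one_or (s : N → I) :
    plateau s = 1 ∨ (fun i => stretch 1 (s i)) ∈ Cube.boundary N := by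
  by_cases h : ∀ i, 1 < 3 * (s i : ℝ) ∧ 3 * (s i : ℝ) < 2
  · left
    exact Finset.prod_eq_one fun i _ => bump_eq_one (h i).1 (h i).2
  · right
    push Not at h
    obtain ⟨i, hi⟩ := h
    refine ⟨i, ?_⟩
    by_cases h1 : 1 < 3 * (s i : ℝ)
    · exact Or.inr (stretch_one_of_ge (hi h1))
    · exact Or.inl (stretch_one_of_le (not_lt.1 h1))

/-- In a contractible space every generalised loop is null-homotopic relative to the boundary. -/
theorem homotopic_const {D : Type*} [TopologicalSpace D] [ContractibleSpace D] {x : D}
    (a : Ω^ N D x) : GenLoop.Homotopic a GenLoop.const := by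
  obtain ⟨p, ⟨H⟩⟩ := id_nullhomotopic D
  have H0 : ∀ y, H (0, y) = y := fun y => H.apply_zero y
  have H1 : ∀ y, H (1, y) = p := fun y => H.apply_one y
  have hbd : ∀ (t : I) (s : N → I), s ∈ Cube.boundary N →
      (fun i => stretch t (s i)) ∈ Cube.boundary N := by
    rintro t s ⟨i, hi⟩
    refine ⟨i, ?_⟩
    rcases hi with hi | hi
    · left; simp only [hi]; exact stretch_left t
    · right; simp only [hi]; exact stretch_right t
  -- the three homotopies
  let a1 : C(N → I, D) := ⟨fun s => a (fun i => stretch 1 (s i)), by fun_prop⟩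
  let a2 : C(N → I, D) := ⟨fun s => H (plateau s, x), by fun_prop⟩
  have e1 : a.1.HomotopicRel a1 (Cube.boundary N) := by
    refine ⟨⟨⟨⟨fun z => a (fun i => stretch z.1 (z.2 i)), by fun_prop⟩, ?_, ?_⟩, ?_⟩⟩
    · intro s
      change a (fun i => stretch 0 (s i)) = a s
      simp only [stretch_zero]
    · intro s; rfl
    · intro t s hs
      change a (fun i => stretch t (s i)) = a s
      rw [GenLoop.boundary a _ (hbd t s hs)]
      exact (GenLoop.boundary a _ hs).symm
  have e2 : a1.HomotopicRel a2 (Cube.boundary N) := by
    refine ⟨⟨⟨⟨fun z => H (z.1 * plateau z.2, a (fun i => stretch 1 (z.2 i))), by fun_prop⟩,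
      ?_, ?_⟩, ?_⟩⟩
    · intro s
      change H (0 * plateau s, _) = _
      rw [zero_mul, H0]
      rfl
    · intro s
      change H (1 * plateau s, a (fun i => stretch 1 (s i))) = H (plateau s, x)
      rw [one_mul]
      rcases plateau_eq_one_or s with h | h
      · rw [h, H1, H1]
      · rw [GenLoop.boundary a _ h]
    · intro t s hs
      change H (t * plateau s, a (fun i => stretch 1 (s i))) = a (fun i => stretch 1 (s i))
      rw [plateau_boundary hs, mul_zero, H0]
  have e3 : a2.HomotopicRel (GenLoop.const : Ω^ N D x).1 (Cube.boundary N) := by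
    refine ⟨⟨⟨⟨fun z => H (σ z.1 * plateau z.2, x), by fun_prop⟩, ?_, ?_⟩, ?_⟩⟩
    · intro s
      change H (σ 0 * plateau s, x) = H (plateau s, x)
      simp
    · intro s
      change H (σ 1 * plateau s, x) = x
      simp [H0]
    · intro t s hs
      change H (σ t * plateau s, x) = H (plateau s, x)
      rw [plateau_boundary hs, mul_zero]
  exact (e1.trans e2).trans e3

theorem subsingleton_homotopyGroup {D : Type*} [TopologicalSpace D] [ContractibleSpace D] (x : D) :
    Subsingleton (HomotopyGroup N D x) := by
  constructor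
  intro p q
  induction p using Quotient.inductionOn with | _ p => ?_
  induction q using Quotient.inductionOn with | _ q => ?_
  exact Quotient.sound ((homotopic_const p).trans (homotopic_const q).symm)

/-- A generalised loop which stays in a contractible subset is null-homotopic. -/
theorem homotopic_const_of_mem {T : Type*} [TopologicalSpace T] {D : Set T} [ContractibleSpace D]
    {x : T} (hx : x ∈ D) (a : Ω^ N T x) (ha : ∀ y, a y ∈ D) :
    GenLoop.Homotopic a GenLoop.const := by
  let b : Ω^ N D ⟨x, hx⟩ := ⟨⟨fun y => ⟨a y, ha y⟩, by fun_prop⟩, fun y hy => by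
    apply Subtype.ext
    exact a.2 y hy⟩
  obtain ⟨F⟩ := homotopic_const b
  refine ⟨(F.compContinuousMap ⟨Subtype.val, continuous_subtype_val⟩).cast ?_ ?_⟩
  · ext y; rfl
  · ext y; rfl

end Groth.Agent.An.H897.Null
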