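import Mathlib.Topology.Separation.Regular
import Mathlib.Topology.Connected.Clopen
import Groth.Agent.An.H897.Core
import Groth.Agent.An.H897.Lift
import Groth.Agent.An.H897.Null

/-!
# Lemma Q: vanishing of higher homotopy groups

`T = U ∪ V` with compressible pieces (`Core.Side`) and contractible clopen pieces (`Pieces`).
A generalised loop whose pulled back `FreeGroup ι`-cocycle is trivialised, normalised on the
boundary, is null-homotopic.  In particular `π_n(T, x) = 0` for `n ≥ 2`.
-/

open Set Topology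
open scoped unitInterval

namespace Groth.Agent.An.H897.PiN

open scoped Topology.Homotopy
open Core FreeWord

variable {T : Type*} [TopologicalSpace T]

/-- Every point of `U` lies in a contractible part of `U`, clopen in `U`. -/
def Pieces (U : Set T) : Prop :=
  ∀ x ∈ U, ∃ D ⊆ U, x ∈ D ∧ IsOpen D ∧ IsOpen (U \ D) ∧ ContractibleSpace D

lemma null_of_pieces {U : Set T} (hP : Pieces U) {N : Type*} [Fintype N] [Nonempty N] {x : T}
    (a : Ω^ N T x) (ha : ∀ y, a y ∈ U) : GenLoop.Homotopic a GenLoop.const := by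
  have h0 : a (fun _ => 0) = x := a.2 _ ⟨Classical.arbitrary N, Or.inl rfl⟩
  have hx : x ∈ U := h0 ▸ ha _
  obtain ⟨D, hDU, hxD, oD, oD', hcD⟩ := hP x hx
  have hcl : IsClopen (a ⁻¹' D) := by
    refine ⟨?_, oD.preimage a.1.continuous⟩
    have : a ⁻¹' D = (a ⁻¹' (U \ D))ᶜ := by
      ext y
      simp only [mem_preimage, mem_compl_iff, mem_sdiff, not_and, not_not]
      exact ⟨fun h _ => h, fun h => h (ha y)⟩
    rw [this]
    exact (oD'.preimage a.1.continuous).isClosed_compl
  have huniv : a ⁻¹' D = univ := IsClopen.eq_univ hcl ⟨fun _ => 0, by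
    change a (fun _ => 0) ∈ D
    rw [h0]; exact hxD⟩
  exact Null.homotopic_const_of_mem hxD a fun y => by
    have : y ∈ a ⁻¹' D := huniv ▸ mem_univ y
    exact this

lemma finite_image {K G : Type*} [TopologicalSpace K] {P : Set K} (hP : IsCompact P) {α : K → G}
    (hα : ∀ k ∈ P, ∀ᶠ z in 𝓝 k, α z = α k) : (α '' P).Finite := by
  classical
  obtain ⟨t, -, ht⟩ := hP.elim_nhds_subcover (fun k => {z | α z = α k}) hα
  refine (t.image α).finite_toSet.subset ?_
  rintro _ ⟨k, hk, rfl⟩
  obtain ⟨x, hx, hkx⟩ := mem_iUnion₂.1 (ht hk)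
  rw [Finset.coe_image]
  exact ⟨x, hx, (show α k = α x from hkx).symm⟩

lemma isClosed_level {K G : Type*} [TopologicalSpace K] {P : Set K} (hP : IsClosed P) {α : K → G}
    (hα : ∀ k ∈ P, ∀ᶠ z in 𝓝 k, α z = α k) (S : Set G) : IsClosed {y | y ∈ P ∧ α y ∈ S} := by
  rw [isClosed_iff_frequently]
  intro y hy
  have hyP : y ∈ P := by
    rw [← hP.closure_eq, mem_closure_iff_frequently]
    exact hy.mono fun z hz => hz.1
  refine ⟨hyP, ?_⟩
  obtain ⟨z, hz, hz'⟩ := (hy.and_eventually (hα y hyP)).exists
  rw [← hz']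
  exact hz.2

lemma isClosed_boundary (N : Type*) [Finite N] : IsClosed (Cube.boundary N) := by
  have : Cube.boundary N = ⋃ i : N, {y : N → I | y i = 0 ∨ y i = 1} := by
    ext y; simp [Cube.boundary]
  rw [this]
  refine isClosed_iUnion_of_finite fun i => ?_
  have h2 : {y : N → I | y i = 0 ∨ y i = 1} = (fun y : N → I => y i) ⁻¹' {0, 1} := by
    ext y; simp
  rw [h2]
  exact (Set.toFinite _).isClosed.preimage (continuous_apply i)

variable {ι : Type*}

/-- **Lemma Q.** A generalised loop whose cocycle is trivialised, normalised on the boundary, is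
null-homotopic relative to the boundary. -/
theorem homotopic_const {U V : Set T} (hU : IsOpen U) (hV : IsOpen V) (hUV : U ∪ V = univ)
    {c : T → ι} (sU : Side U (U ∩ V) c) (sV : Side V (U ∩ V) c) (pU : Pieces U) (pV : Pieces V)
    {N : Type} [Fintype N] [Nonempty N] {x : T} (a : Ω^ N T x) (α β : (N → I) → FreeGroup ι)
    (hα : ∀ k, a k ∈ U → ∀ᶠ z in 𝓝 k, α z = α k) (hβ : ∀ k, a k ∈ V → ∀ᶠ z in 𝓝 k, β z = β k)
    (hrel : ∀ k, a k ∈ U → a k ∈ V → β k = FreeGroup.of (c (a k)) * α k)
    (hbU : x ∈ U → ∀ y ∈ Cube.boundary N, α y = 1) (hbV : x ∉ U → ∀ y ∈ Cube.boundary N, β y = 1) :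
    GenLoop.Homotopic a GenLoop.const := by
  classical
  have ac : Continuous a := a.1.continuous
  -- closed sets `P`, `Q`
  obtain ⟨W, oW, hW1, hW2, hW3⟩ : ∃ W : Set (N → I), IsOpen W ∧ (∀ y ∉ W, a y ∈ V) ∧
      (∀ y ∈ closure W, a y ∈ U) ∧ (x ∈ U → Cube.boundary N ⊆ W) := by
    by_cases hx : x ∈ U
    · obtain ⟨W, oW, h1, h2⟩ := normal_exists_closure_subset
        (s := (a ⁻¹' V)ᶜ ∪ Cube.boundary N) (t := a ⁻¹' U)
        ((hV.preimage ac).isClosed_compl.union (isClosed_boundary N)) (hU.preimage ac) (by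
          rintro y (hy | hy)
          · rcases (hUV.symm ▸ mem_univ (a y) : a y ∈ U ∪ V) with h | h
            · exact h
            · exact absurd h hy
          · change a y ∈ U
            rw [GenLoop.boundary a y hy]; exact hx)
      refine ⟨W, oW, fun y hy => ?_, h2, fun _ => subset_union_right.trans h1⟩
      by_contra hyV
      exact hy (h1 (Or.inl hyV))
    · obtain ⟨W, oW, h1, h2⟩ := normal_exists_closure_subset
        (s := (a ⁻¹' V)ᶜ) (t := a ⁻¹' U)
        ((hV.preimage ac).isClosed_compl) (hU.preimage ac) (by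
          intro y hy
          rcases (hUV.symm ▸ mem_univ (a y) : a y ∈ U ∪ V) with h | h
          · exact h
          · exact absurd h hy)
      refine ⟨W, oW, fun y hy => ?_, h2, fun h => absurd h hx⟩
      by_contra hyV
      exact hy (h1 hyV)
  set P := closure W with hPdef
  set Q := Wᶜ with hQdef
  have cP : IsClosed P := isClosed_closure
  have cQ : IsClosed Q := oW.isClosed_compl
  have hcov : P ∪ Q = univ := by
    rw [eq_univ_iff_forall]
    intro y
    by_cases hy : y ∈ W
    · exact Or.inl (subset_closure hy)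
    · exact Or.inr hy
  have fP := finite_image cP.isCompact (α := α) fun k hk => hα k (hW2 k hk)
  have fQ := finite_image cQ.isCompact (α := β) fun k hk => hβ k (hW1 k hk)
  have hst : State U V c true (Cube.boundary N) a.1 P Q α β fP.toFinset fQ.toFinset := by
    refine ⟨cP, cQ, hcov, hW2, hW1, fun S => isClosed_level cP (fun k hk => hα k (hW2 k hk)) S,
      fun S => isClosed_level cQ (fun k hk => hβ k (hW1 k hk)) S, ?_, ?_, ?_, ?_⟩
    · intro y hy hy'
      rw [letter_true]
      exact hrel y (hW2 y hy) (hW1 y hy')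
    · intro y hy
      by_cases hx : x ∈ U
      · exact Or.inl ⟨subset_closure (hW3 hx hy), hbU hx y hy⟩
      · right
        refine ⟨fun hyW => hx ?_, hbV hx y hy⟩
        have := hW2 y (subset_closure hyW)
        rwa [GenLoop.boundary a y hy] at this
    · intro y hy
      rw [Set.Finite.mem_toFinset]
      exact mem_image_of_mem _ hy
    · intro y hy
      rw [Set.Finite.mem_toFinset]
      exact mem_image_of_mem _ hy
  obtain ⟨a', ha', h⟩ := core _ rfl sU sV hst le_rfl
  let a'' : Ω^ N T x := ⟨a', fun y hy => by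
    rw [← ha'.fst_eq_snd hy]; exact a.2 y hy⟩
  have h1 : GenLoop.Homotopic a a'' := ha'
  rcases h with h | h
  · exact h1.trans (null_of_pieces pU a'' h)
  · exact h1.trans (null_of_pieces pV a'' h)

lemma isPreconnected_boundary (N : Type*) [Nontrivial N] : IsPreconnected (Cube.boundary N) := by
  classical
  let F : N × I → Set (N → I) := fun p => {y | y p.1 = p.2}
  let Idx := {p : N × I // p.2 = 0 ∨ p.2 = 1}
  have hun : Cube.boundary N = ⋃ p : Idx, F p.1 := by
    ext y
    simp only [Cube.boundary, mem_iUnion, F]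
    constructor
    · rintro ⟨i, hi⟩
      exact ⟨⟨(i, y i), hi⟩, rfl⟩
    · rintro ⟨⟨p, hp⟩, h⟩
      refine ⟨p.1, ?_⟩
      have h : y p.1 = p.2 := h
      rw [h]; exact hp
  rw [hun]
  have hpre : ∀ p : Idx, IsPreconnected (F p.1) := by
    rintro ⟨⟨i, e⟩, hp⟩
    have : F (i, e) = range (fun y : N → I => Function.update y i e) := by
      ext y
      constructor
      · intro hy
        refine ⟨y, ?_⟩
        have hy : y i = e := hy
        subst hy
        exact Function.update_eq_self i y
      · rintro ⟨z, rfl⟩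
        exact Function.update_self ..
    change IsPreconnected (F (i, e))
    rw [this]
    exact isPreconnected_range (by fun_prop)
  refine IsPreconnected.iUnion_of_reflTransGen hpre ?_
  have hmeet : ∀ p q : Idx, p.1.1 ≠ q.1.1 → (F p.1 ∩ F q.1).Nonempty := by
    rintro ⟨⟨i, e⟩, hp⟩ ⟨⟨j, e'⟩, hq⟩ hij
    refine ⟨Function.update (fun _ => e) j e', ?_, ?_⟩
    · exact Function.update_of_ne hij _ _
    · exact Function.update_self ..
  intro p q
  by_cases hpq : p.1.1 = q.1.1
  · obtain ⟨k, hk⟩ := exists_ne p.1.1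
    let r : Idx := ⟨(k, 0), Or.inl rfl⟩
    exact (Relation.ReflTransGen.single (hmeet p r (Ne.symm hk))).tail
      (hmeet r q (hpq ▸ hk))
  · exact Relation.ReflTransGen.single (hmeet p q hpq)

lemma eq_of_isPreconnected {K G : Type*} [TopologicalSpace K] {S : Set K} (hS : IsPreconnected S)
    {α : K → G} (hα : ∀ k ∈ S, ∀ᶠ z in 𝓝 k, α z = α k) {x y : K} (hx : x ∈ S) (hy : y ∈ S) :
    α x = α y := by
  let _ : TopologicalSpace G := ⊥
  have _ : DiscreteTopology G := ⟨rfl⟩
  refine hS.constant (f := α) ?_ hx hy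
  intro k hk
  apply ContinuousAt.continuousWithinAt
  exact (continuousAt_const (y := α k)).congr ((hα k hk).mono fun z hz => hz.symm)

lemma contractible_cube (N : Type*) : ContractibleSpace (N → I) := by
  rw [contractible_iff_id_nullhomotopic]
  refine ⟨fun _ => 0, ⟨⟨⟨fun z i => ⟨(σ z.1 : ℝ) * z.2 i, unitInterval.mul_mem (σ z.1).2 (z.2 i).2⟩,
    by fun_prop⟩, ?_, ?_⟩⟩⟩
  · intro y; ext i; simp
  · intro y; ext i; simp

/-- Vanishing of `π_n`, `n ≥ 2` (index type with at least two elements). -/
theorem subsingleton_homotopyGroup' {U V : Set T} (hU : IsOpen U) (hV : IsOpen V)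
    (hUV : U ∪ V = univ) {c : T → ι} (hc : ∀ x ∈ U ∩ V, ∀ᶠ y in 𝓝 x, c y = c x)
    (sU : Side U (U ∩ V) c) (sV : Side V (U ∩ V) c) (pU : Pieces U) (pV : Pieces V)
    {N : Type} [Fintype N] [Nontrivial N] (x : T) : Subsingleton (HomotopyGroup N T x) := by
  have key : ∀ a : Ω^ N T x, GenLoop.Homotopic a GenLoop.const := by
    classical
    intro a
    have _ := contractible_cube N
    obtain ⟨α, β, hα, hβ, hrel⟩ := Lift.exists_triv hU hV hUV (fun x => FreeGroup.of (c x))
      (fun x hx => (hc x hx).mono fun y hy => by rw [hy]) a.1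
    have h0 : (fun _ => 0 : N → I) ∈ Cube.boundary N := ⟨Classical.arbitrary N, Or.inl rfl⟩
    let h : FreeGroup ι := if x ∈ U then α (fun _ => 0) else β (fun _ => 0)
    refine homotopic_const hU hV hUV sU sV pU pV a (fun y => α y * h⁻¹) (fun y => β y * h⁻¹) ?_ ?_
      ?_ ?_ ?_
    · intro k hk
      exact (hα k hk).mono fun z hz => by simp only [hz]
    · intro k hk
      exact (hβ k hk).mono fun z hz => by simp only [hz]
    · intro k hk hk'
      rw [hrel k hk hk', mul_assoc]
      rfl
    · intro hx y hy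
      have : α y = α (fun _ => 0) := eq_of_isPreconnected (isPreconnected_boundary N)
        (fun k hk => hα k (by
          change a k ∈ U
          rw [GenLoop.boundary a k hk]; exact hx)) hy h0
      simp [h, hx, this]
    · intro hx y hy
      have hxV : x ∈ V := by
        rcases (hUV.symm ▸ mem_univ x : x ∈ U ∪ V) with h | h
        · exact absurd h hx
        · exact h
      have : β y = β (fun _ => 0) := eq_of_isPreconnected (isPreconnected_boundary N)
        (fun k hk => hβ k (by
          change a k ∈ V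
          rw [GenLoop.boundary a k hk]; exact hxV)) hy h0
      simp [h, hx, this]
  constructor
  intro p q
  induction p using Quotient.inductionOn with | _ p => ?_
  induction q using Quotient.inductionOn with | _ q => ?_
  exact Quotient.sound ((key p).trans (key q).symm)

/-- **Vanishing of the higher homotopy groups.** -/
theorem subsingleton_homotopyGroup {U V : Set T} (hU : IsOpen U) (hV : IsOpen V)
    (hUV : U ∪ V = univ) {c : T → ι} (hc : ∀ x ∈ U ∩ V, ∀ᶠ y in 𝓝 x, c y = c x)
    (sU : Side U (U ∩ V) c) (sV : Side V (U ∩ V) c) (pU : Pieces U) (pV : Pieces V)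
    {n : ℕ} (hn : 2 ≤ n) (x : T) : Subsingleton (HomotopyGroup (Fin n) T x) := by
  have : Nontrivial (Fin n) := Fin.nontrivial_iff_two_le.2 hn
  exact subsingleton_homotopyGroup' hU hV hUV hc sU sV pU pV x

end Groth.Agent.An.H897.PiN
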