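import Mathlib.Topology.Homotopy.Lifting
import Mathlib.Topology.Covering.Quotient
import Groth.Agent.An.H897.Lift

/-!
# The `G`-covering of a locally constant cocycle on a two-set open cover
-/

open Set Topology
open scoped unitInterval

namespace Groth.Agent.An.H897.Cover

/-- A locally constant `G`-cocycle on a two-set open cover. -/
structure Coc (T : Type*) [TopologicalSpace T] (G : Type*) [Group G] where
  U : Set T
  V : Set T
  hU : IsOpen U
  hV : IsOpen V
  hUV : U ∪ V = univ
  g : T → G
  hg : ∀ x ∈ U ∩ V, ∀ᶠ y in 𝓝 x, g y = g x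

namespace Coc

variable {T : Type*} [TopologicalSpace T] {G : Type*} [Group G] [TopologicalSpace G]
  [DiscreteTopology G] (C : Coc T G)

/-- The fibre bundle core. -/
noncomputable def core : FiberBundleCore Bool T G := Lift.zcore C.U C.V C.hU C.hV C.hUV C.g C.hg

lemma coordChange_mul (i j : Bool) (x : T) (v w : G) :
    C.core.coordChange i j x (v * w) = C.core.coordChange i j x v * w := by
  cases i <;> cases j <;> simp [core, Lift.zcore, mul_assoc]

lemma coordChange_tf (x : T) (v : G) : C.core.coordChange true false x v = C.g x * v := by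
  simp [core, Lift.zcore]

lemma baseSet_eq (s : Bool) : C.core.baseSet s = if s then C.U else C.V := rfl

/-- The total space of the covering. -/
abbrev E := C.core.TotalSpace

/-- The projection of the covering. -/
def pr (e : C.E) : T := e.1

lemma isCoveringMap : IsCoveringMap C.pr :=
  FiberBundle.isCoveringMap (F := G) (E := C.core.Fiber)

/-- The point of the covering with given projection and coordinate. -/
def point (x : T) (v : G) : C.E := ⟨x, v⟩

/-- The fibre coordinate of a point (in the preferred chart). -/
def val (e : C.E) : G := e.2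

lemma point_val (e : C.E) : C.point (C.pr e) (C.val e) = e := rfl

/-- The coordinate of a point in the chart `s`. -/
noncomputable def coord (s : Bool) (e : C.E) : G := (C.core.localTriv s e).2

lemma coord_eq (s : Bool) (e : C.E) :
    C.coord s e = C.core.coordChange (C.core.indexAt e.1) s e.1 e.2 := rfl

lemma eventually_coord (s : Bool) (e : C.E) (he : C.pr e ∈ C.core.baseSet s) :
    ∀ᶠ e' in 𝓝 e, C.coord s e' = C.coord s e := by
  have hsrc : e ∈ (C.core.localTriv s).source := by
    rw [FiberBundleCore.mem_localTriv_source, ← FiberBundleCore.baseSet_at]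
    exact he
  have hc : ContinuousAt (fun z => (C.core.localTriv s z).2) e :=
    continuousAt_snd.comp ((C.core.localTriv s).continuousAt hsrc)
  exact hc.eventually (p := fun v => v = (C.core.localTriv s e).2) (by
    rw [nhds_discrete]; exact Filter.eventually_pure.2 rfl)

lemma coord_false_eq (e : C.E) (h1 : C.pr e ∈ C.U) (h2 : C.pr e ∈ C.V) :
    C.coord false e = C.g (C.pr e) * C.coord true e := by
  have hmem := C.core.mem_baseSet_at e.1
  have hcc := C.core.coordChange_comp (C.core.indexAt e.1) true false e.1
    ⟨⟨hmem, h1⟩, h2⟩ e.2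
  rw [coord_eq, coord_eq, ← hcc, coordChange_tf]
  rfl

lemma ext_of_coord {e e' : C.E} (h : C.pr e = C.pr e') (s : Bool)
    (hs : C.pr e ∈ C.core.baseSet s) (h' : C.coord s e = C.coord s e') : e = e' := by
  apply (C.core.localTriv s).injOn (x₁ := e) (x₂ := e')
  · rw [FiberBundleCore.mem_localTriv_source, ← FiberBundleCore.baseSet_at]
    exact hs
  · rw [FiberBundleCore.mem_localTriv_source, ← FiberBundleCore.baseSet_at]
    change C.pr e' ∈ _
    rw [← h]; exact hs
  · exact Prod.ext h h'

/-- The action of `G` on the covering. -/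
noncomputable instance : MulAction G C.E where
  smul h e := C.point (C.pr e) (C.val e * h⁻¹)
  one_smul e := by
    change C.point (C.pr e) (C.val e * 1⁻¹) = e
    rw [inv_one, mul_one, point_val]
  mul_smul h h' e := by
    change C.point (C.pr e) (C.val e * (h * h')⁻¹) = C.point (C.pr e) (C.val e * h'⁻¹ * h⁻¹)
    rw [mul_inv_rev, mul_assoc]

lemma pr_smul (h : G) (e : C.E) : C.pr (h • e) = C.pr e := rfl

lemma coord_smul (s : Bool) (h : G) (e : C.E) : C.coord s (h • e) = C.coord s e * h⁻¹ :=
  C.coordChange_mul (C.core.indexAt (C.pr e)) s (C.pr e) (C.val e) h⁻¹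

lemma continuous_smul' (h : G) : Continuous fun e : C.E => h • e := by
  rw [continuous_iff_continuousAt]
  intro e
  rw [FiberBundle.continuousAt_totalSpace]
  refine ⟨C.isCoveringMap.continuous.continuousAt, ?_⟩
  let s := C.core.indexAt (C.pr e)
  have key : (fun e' : C.E => (trivializationAt G C.core.Fiber (h • e).proj (h • e')).2) =
      fun e' => C.coord s e' * h⁻¹ := by
    ext e'
    exact C.coord_smul s h e'
  rw [key]
  have h1 := C.eventually_coord s e (C.core.mem_baseSet_at _)
  exact (continuousAt_const (y := C.coord s e * h⁻¹)).congr (h1.mono fun z hz => by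
    simp only [hz])

lemma pr_surjective : Function.Surjective C.pr := fun x => ⟨C.point x 1, rfl⟩

lemma isQuotientCoveringMap : IsQuotientCoveringMap C.pr G := by
  rw [isQuotientCoveringMap_iff_isCoveringMap_and]
  refine ⟨C.isCoveringMap, C.pr_surjective, ⟨C.continuous_smul'⟩, ⟨?_⟩, ?_⟩
  · intro h h' e he
    have h1 := C.coord_smul (C.core.indexAt e.1) h e
    have h2 := C.coord_smul (C.core.indexAt e.1) h' e
    have he : h • e = h' • e := he
    rw [he, h2] at h1
    exact (inv_injective (mul_left_cancel h1)).symm
  · intro e₁ e₂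
    constructor
    · intro h12
      let s := C.core.indexAt e₁.1
      refine ⟨(C.coord s e₁)⁻¹ * C.coord s e₂, ?_⟩
      refine C.ext_of_coord h12.symm s (by
        rw [pr_smul, ← h12]; exact C.core.mem_baseSet_at _) ?_
      rw [coord_smul]
      simp
    · rintro ⟨h, rfl⟩
      exact C.pr_smul h e₂

/-- A local section of the covering over the chart `s`. -/
lemma exists_section (s : Bool) (v : G) : ∃ τ : T → C.E, ContinuousOn τ (C.core.baseSet s) ∧
    ∀ x ∈ C.core.baseSet s, C.pr (τ x) = x ∧ C.coord s (τ x) = v := by
  classical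
  let t := C.core.localTriv s
  refine ⟨fun x => t.toOpenPartialHomeomorph.symm (x, v), ?_, ?_⟩
  · refine t.toOpenPartialHomeomorph.symm.continuousOn.comp
      (Continuous.continuousOn (by fun_prop)) fun x hx => ?_
    exact t.mem_target.2 hx
  · intro x hx
    have h1 := t.toOpenPartialHomeomorph.right_inv (x := (x, v)) (t.mem_target.2 hx)
    exact ⟨congrArg Prod.fst h1, congrArg Prod.snd h1⟩

/-- Sheets over (path) connected subsets of a chart. -/
def sheet (s : Bool) (P : Set T) (v : G) : Set C.E := {e | C.pr e ∈ P ∧ C.coord s e = v}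

lemma isOpen_sheet (s : Bool) {P : Set T} (hP : IsOpen P) (hPs : P ⊆ C.core.baseSet s) (v : G) :
    IsOpen (C.sheet s P v) := by
  rw [isOpen_iff_mem_nhds]
  rintro e ⟨he, hv⟩
  filter_upwards [(hP.preimage C.isCoveringMap.continuous).mem_nhds he,
    C.eventually_coord s e (hPs he)] with e' h1 h2
  exact ⟨h1, h2.trans hv⟩

lemma isPathConnected_sheet (s : Bool) {P : Set T} (hP : IsPathConnected P)
    (hPs : P ⊆ C.core.baseSet s) (v : G) : IsPathConnected (C.sheet s P v) := by
  obtain ⟨τ, hτ, hτ'⟩ := C.exists_section s v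
  have : C.sheet s P v = τ '' P := by
    ext e
    constructor
    · rintro ⟨he, hv⟩
      refine ⟨C.pr e, he, ?_⟩
      exact C.ext_of_coord (hτ' _ (hPs he)).1 s (by rw [(hτ' _ (hPs he)).1]; exact hPs he)
        ((hτ' _ (hPs he)).2.trans hv.symm)
    · rintro ⟨x, hx, rfl⟩
      exact ⟨by rw [(hτ' x (hPs hx)).1]; exact hx, (hτ' x (hPs hx)).2⟩
  rw [this]
  exact hP.image' (hτ.mono hPs)

end Coc

end Groth.Agent.An.H897.Cover
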