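import Mathlib.GroupTheory.FreeGroup.NielsenSchreier
import Groth.Agent.An.H897.PiN
import Groth.Agent.An.H897.Cover

/-!
# Lemma Q: the fundamental group embeds into a free group
-/

open Set Topology
open scoped unitInterval

namespace Groth.Agent.An.H897.Pi1

open scoped Topology.Homotopy
open Core FreeWord PiN Cover

variable {T : Type*} [TopologicalSpace T] {ι : Type*}

/-- The `FreeGroup ι`-cocycle of the labelling `c`. -/
noncomputable def coc {U V : Set T} (hU : IsOpen U) (hV : IsOpen V) (hUV : U ∪ V = univ) {c : T → ι}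
    (hc : ∀ x ∈ U ∩ V, ∀ᶠ y in 𝓝 x, c y = c x) : Coc T (FreeGroup ι) where
  U := U
  V := V
  hU := hU
  hV := hV
  hUV := hUV
  g x := FreeGroup.of (c x)
  hg x hx := (hc x hx).mono fun y hy => by rw [hy]

variable {U V : Set T} (hU : IsOpen U) (hV : IsOpen V) (hUV : U ∪ V = univ)
  {c : T → ι} (hc : ∀ x ∈ U ∩ V, ∀ᶠ y in 𝓝 x, c y = c x)
  (sU : Side U (U ∩ V) c) (sV : Side V (U ∩ V) c) (pU : Pieces U) (pV : Pieces V)

/-- A loop which lifts to a loop is null-homotopic. -/
theorem homotopic_refl [TopologicalSpace (FreeGroup ι)] [DiscreteTopology (FreeGroup ι)]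
    (sU : Side U (U ∩ V) c) (sV : Side V (U ∩ V) c) (pU : Pieces U) (pV : Pieces V)
    {x : T} (p : Path x x) (q : C(I, (coc hU hV hUV hc).E))
    (hq : ∀ t, (coc hU hV hUV hc).pr (q t) = p t) (h01 : q 0 = q 1) :
    Path.Homotopic p (Path.refl x) := by
  classical
  let C := coc hU hV hUV hc
  have hq : ∀ t, C.pr (q t) = p t := hq
  let a : Ω^ (Fin 1) T x := (genLoopEquivOfUnique (Fin 1)).symm p
  have ha : ∀ y, a y = p (y default) := fun y => rfl
  let h : FreeGroup ι := if x ∈ U then C.coord true (q 0) else C.coord false (q 0)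
  have hbd : ∀ y ∈ Cube.boundary (Fin 1), q (y default) = q 0 := by
    rintro y ⟨i, hi⟩
    have : i = default := Subsingleton.elim _ _
    subst this
    rcases hi with hi | hi
    · rw [hi]
    · rw [hi, h01]
  have hlc : ∀ (s : Bool) (k : Fin 1 → I), a k ∈ (if s then U else V) →
      ∀ᶠ z in 𝓝 k, C.coord s (q (z default)) * h⁻¹ = C.coord s (q (k default)) * h⁻¹ := by
    intro s k hk
    have h1 := C.eventually_coord s (q (k default)) (by
      rw [C.baseSet_eq, hq]; exact hk)
    have h2 : Continuous fun z : Fin 1 → I => q (z default) := by fun_prop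
    exact (h2.continuousAt.eventually h1).mono fun z hz => by rw [hz]
  have key : GenLoop.Homotopic a GenLoop.const := by
    refine homotopic_const hU hV hUV sU sV pU pV a (fun y => C.coord true (q (y default)) * h⁻¹)
      (fun y => C.coord false (q (y default)) * h⁻¹) (fun k hk => hlc true k (by simpa using hk))
      (fun k hk => hlc false k (by simpa using hk)) ?_ ?_ ?_
    · intro k hk hk'
      rw [C.coord_false_eq _ (by rw [hq]; exact hk) (by rw [hq]; exact hk'), hq, ← ha, mul_assoc]
      rfl
    · intro hx y hy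
      simp only [hbd y hy]
      simp [h, hx]
    · intro hx y hy
      simp only [hbd y hy]
      simp [h, hx]
  have h2 : homotopyGroupEquivFundamentalGroupOfUnique (Fin 1) (X := T) (x := x) ⟦a⟧ =
      homotopyGroupEquivFundamentalGroupOfUnique (Fin 1) ⟦GenLoop.const⟧ := by
    congr 1
    exact Quotient.sound key
  have h3 : genLoopEquivOfUnique (Fin 1) a = p := Equiv.apply_symm_apply _ _
  have h4 : genLoopEquivOfUnique (Fin 1) (GenLoop.const : Ω^ (Fin 1) T x) = Path.refl x := by
    ext t; rfl
  have h5 : (⟦p⟧ : Path.Homotopic.Quotient x x) = ⟦Path.refl x⟧ := by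
    rw [← h3, ← h4]
    exact h2
  exact Quotient.exact h5

/-- The monodromy homomorphism to the free group. -/
noncomputable def mono [TopologicalSpace (FreeGroup ι)] [DiscreteTopology (FreeGroup ι)] {x : T}
    (e : (coc hU hV hUV hc).pr ⁻¹' {x}) : FundamentalGroup T x →* FreeGroup ι :=
  (MulEquiv.inv' (FreeGroup ι)).symm.toMonoidHom.comp
    ((coc hU hV hUV hc).isQuotientCoveringMap.fundamentalGroupToMulOpposite e)

theorem mono_injective [TopologicalSpace (FreeGroup ι)] [DiscreteTopology (FreeGroup ι)]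
    (sU : Side U (U ∩ V) c) (sV : Side V (U ∩ V) c) (pU : Pieces U) (pV : Pieces V) {x : T}
    (e : (coc hU hV hUV hc).pr ⁻¹' {x}) : Function.Injective (mono hU hV hUV hc e) := by
  refine Function.Injective.comp (g := (MulEquiv.inv' (FreeGroup ι)).symm)
    (MulEquiv.injective _) ?_
  rw [injective_iff_map_eq_one]
  intro γ hγ
  rw [IsQuotientCoveringMap.fundamentalGroupToMulOpposite_eq_one_iff] at hγ
  induction γ using Quotient.inductionOn with | _ p => ?_
  have hpe : p 0 = (coc hU hV hUV hc).pr e := p.source.trans e.2.symm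
  let q := (coc hU hV hUV hc).isCoveringMap.liftPath p e hpe
  have hq0 : q 0 = e := IsCoveringMap.liftPath_zero ..
  have hq1 : q 1 = e := congrArg Subtype.val hγ
  have := homotopic_refl hU hV hUV hc sU sV pU pV p q
    (fun t => congrFun ((coc hU hV hUV hc).isCoveringMap.liftPath_lifts p e hpe) t)
    (hq0.trans hq1.symm)
  exact Quotient.sound this

include hU hV hUV hc sU sV pU pV in
theorem exists_injective (x : T) :
    ∃ φ : FundamentalGroup T x →* FreeGroup ι, Function.Injective φ := by
  let _ : TopologicalSpace (FreeGroup ι) := ⊥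
  have _ : DiscreteTopology (FreeGroup ι) := ⟨rfl⟩
  let e : (coc hU hV hUV hc).pr ⁻¹' {x} := ⟨(coc hU hV hUV hc).point x 1, rfl⟩
  exact ⟨mono hU hV hUV hc e, mono_injective hU hV hUV hc sU sV pU pV e⟩

include hU hV hUV hc sU sV pU pV in
/-- **The fundamental group is free.** -/
theorem isFreeGroup (x : T) : IsFreeGroup (FundamentalGroup T x) := by
  obtain ⟨φ, hφ⟩ := exists_injective hU hV hUV hc sU sV pU pV x
  exact IsFreeGroup.ofMulEquiv (MonoidHom.ofInjective hφ).symm

end Groth.Agent.An.H897.Pi1
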