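import Mathlib.Topology.UrysohnsLemma
import Mathlib.Topology.Separation.Regular
import Groth.Agent.An.H897.Core
import Groth.Agent.An.H897.Null

/-!
# Star pairs are compressible

`(A, E)` is a star pair: `A` contracts to a point `p` by `R`, the contraction preserves `E` for
`t ≠ 1`, and `E ∪ {p}` can be pushed into `E` by `S`.
-/

open Set Topology
open scoped unitInterval

namespace Groth.Agent.An.H897.Star

open Core

variable {T : Type*} [TopologicalSpace T]

/-- Star pairs. -/
structure StarPair (A E : Set T) (p : T) (R S : I × T → T) : Prop where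
  sub : E ⊆ A
  mem : p ∈ A
  contR : ContinuousOn R (univ ×ˢ A)
  R_zero : ∀ x ∈ A, R (0, x) = x
  R_one : ∀ x ∈ A, R (1, x) = p
  R_mem : ∀ t, ∀ x ∈ A, R (t, x) ∈ A
  R_mem_E : ∀ t, t ≠ 1 → ∀ x ∈ E, R (t, x) ∈ E
  contS : ContinuousOn S (univ ×ˢ (insert p E))
  S_zero : ∀ x ∈ insert p E, S (0, x) = x
  S_mem : ∀ t, t ≠ 0 → ∀ x ∈ insert p E, S (t, x) ∈ E

attribute [local instance] Null.continuousMul_unitInterval

theorem StarPair.compressible {A E : Set T} {p : T} {R S : I × T → T} (h : StarPair A E p R S)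
    (hE : IsOpen E) : Compressible A E := by
  intro K _ _ _ C hC a haA haE
  -- the cut-off function
  obtain ⟨u, hu0, hu1⟩ : ∃ u : C(K, I), (∀ k ∈ C, u k = 0) ∧ ∀ k, a k ∉ E → u k = 1 := by
    obtain ⟨f, hf0, hf1, hf⟩ := exists_continuous_zero_one_of_isClosed hC
      (hE.preimage a.continuous).isClosed_compl (by
        rw [disjoint_compl_right_iff_subset]
        exact fun k hk => haE k hk)
    exact ⟨⟨fun k => ⟨f k, hf k⟩, by fun_prop⟩, fun k hk => Subtype.ext (hf0 hk),
      fun k hk => Subtype.ext (hf1 hk)⟩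
  have hpA : insert p E ⊆ A := insert_subset h.mem h.sub
  have hm1 : ∀ k, R (u k, a k) ∈ insert p E := fun k => by
    by_cases hk : u k = 1
    · rw [hk, h.R_one _ (haA k)]; exact mem_insert _ _
    · have : a k ∈ E := by
        by_contra hk'
        exact hk (hu1 k hk')
      exact mem_insert_of_mem _ (h.R_mem_E _ hk _ this)
  have hSA : ∀ t, ∀ x ∈ insert p E, S (t, x) ∈ A := fun t x hx => by
    by_cases ht : t = 0
    · rw [ht, h.S_zero x hx]; exact hpA hx
    · exact h.sub (h.S_mem t ht x hx)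
  -- the maps, with values in `A`
  have c1 : Continuous fun z : I × K => R (z.1 * u z.2, a z.2) :=
    h.contR.comp_continuous (by fun_prop) fun z => ⟨mem_univ _, haA z.2⟩
  have c1' : Continuous fun k : K => R (u k, a k) :=
    h.contR.comp_continuous (by fun_prop) fun z => ⟨mem_univ _, haA z⟩
  have c2 : Continuous fun z : I × K => S (z.1 * u z.2, R (u z.2, a z.2)) :=
    h.contS.comp_continuous ((by fun_prop : Continuous fun z : I × K => z.1 * u z.2).prodMk
      (c1'.comp continuous_snd)) fun z => ⟨mem_univ _, hm1 z.2⟩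
  have c2' : Continuous fun k : K => S (u k, R (u k, a k)) :=
      h.contS.comp_continuous (u.continuous.prodMk c1') fun z => ⟨mem_univ _, hm1 z⟩
  let a0 : C(K, A) := ⟨fun k => ⟨a k, haA k⟩, a.continuous.subtype_mk _⟩
  let a1 : C(K, A) := ⟨fun k => ⟨R (u k, a k), hpA (hm1 k)⟩, c1'.subtype_mk _⟩
  let a2 : C(K, A) := ⟨fun k => ⟨S (u k, R (u k, a k)), hSA _ _ (hm1 k)⟩, c2'.subtype_mk _⟩
  let e1 : a0.HomotopyRel a1 C := ⟨⟨⟨fun z => ⟨R (z.1 * u z.2, a z.2), h.R_mem _ _ (haA z.2)⟩,
      c1.subtype_mk _⟩, fun k => by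
        apply Subtype.ext
        change R (0 * u k, a k) = a k
        rw [zero_mul, h.R_zero _ (haA k)], fun k => by
        apply Subtype.ext
        change R (1 * u k, a k) = R (u k, a k)
        rw [one_mul]⟩, fun t k hk => by
        apply Subtype.ext
        change R (t * u k, a k) = a k
        rw [hu0 k hk, mul_zero, h.R_zero _ (haA k)]⟩
  let e2 : a1.HomotopyRel a2 C := ⟨⟨⟨fun z => ⟨S (z.1 * u z.2, R (u z.2, a z.2)),
      hSA _ _ (hm1 z.2)⟩, c2.subtype_mk _⟩, fun k => by
        apply Subtype.ext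
        change S (0 * u k, R (u k, a k)) = R (u k, a k)
        rw [zero_mul, h.S_zero _ (hm1 k)], fun k => by
        apply Subtype.ext
        change S (1 * u k, R (u k, a k)) = S (u k, R (u k, a k))
        rw [one_mul]⟩, fun t k hk => by
        apply Subtype.ext
        change S (t * u k, R (u k, a k)) = R (u k, a k)
        have := h.S_zero _ (hm1 k)
        rw [hu0 k hk] at this ⊢
        rw [mul_zero, this]⟩
  let e := e1.trans e2
  refine ⟨⟨fun z => (e z : T), by fun_prop⟩, fun k => ?_, fun t k => (e (t, k)).2, fun t k hk => ?_,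
    fun k => ?_⟩
  · change (e (0, k) : T) = a k
    rw [e.apply_zero]
    rfl
  · change (e (t, k) : T) = a k
    rw [e.eq_fst t hk]
    rfl
  · change (e (1, k) : T) ∈ E
    rw [e.apply_one]
    change S (u k, R (u k, a k)) ∈ E
    by_cases hk : u k = 0
    · have hk1 : a k ∈ E := by
        by_contra hk'
        have := hu1 k hk'
        rw [hk] at this
        exact zero_ne_one this
      have := h.S_zero _ (hm1 k)
      rw [hk] at this ⊢
      rw [this, h.R_zero _ (haA k)]
      exact hk1
    · exact h.S_mem _ hk _ (hm1 k)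

theorem StarPair.contractibleSpace {A E : Set T} {p : T} {R S : I × T → T}
    (h : StarPair A E p R S) : ContractibleSpace A := by
  rw [contractible_iff_id_nullhomotopic]
  refine ⟨⟨p, h.mem⟩, ⟨⟨⟨fun z => ⟨R (z.1, z.2), h.R_mem _ _ z.2.2⟩, ?_⟩, ?_, ?_⟩⟩⟩
  · exact (h.contR.comp_continuous (by fun_prop) fun z => ⟨mem_univ _, z.2.2⟩).subtype_mk _
  · intro x
    exact Subtype.ext (h.R_zero _ x.2)
  · intro x
    exact Subtype.ext (h.R_one _ x.2)

end Groth.Agent.An.H897.Star
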